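import Cfsg.Agent.Lib.KnownA.MinIndexU3.Exists
import Cfsg.Agent.Lib.Classical.HermMatrixSimple

/-!
# `SU₄(3)` has no subgroup of index 81

Restricted to `SU₃(3)` an action on 81 points would consist of two orbits of sizes at least 28.
-/

set_option autoImplicit false
set_option linter.unusedSectionVars false

open Matrix CfsgLib.Classical MulAction

namespace CfsgLib.KnownA.MinIndexU4

variable {K : Type*} [Field K] [Fintype K] {q : ℕ}

/-- A matrix with a fixed last coordinate added. -/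
def extend4 (M : Matrix (Fin 3) (Fin 3) K) : Matrix (Fin 4) (Fin 4) K :=
  Matrix.reindexAlgEquiv K K finSumFinEquiv (Matrix.fromBlocks M 0 0 (1 : Matrix (Fin 1) (Fin 1) K))

theorem extend4_mul (M N : Matrix (Fin 3) (Fin 3) K) : extend4 (M * N) = extend4 M * extend4 N := by
  rw [extend4, extend4, extend4, ← map_mul, Matrix.fromBlocks_multiply]
  simp

theorem extend4_one : extend4 (1 : Matrix (Fin 3) (Fin 3) K) = 1 := by
  rw [extend4, Matrix.fromBlocks_one, map_one]

theorem extend4_det (M : Matrix (Fin 3) (Fin 3) K) : (extend4 M).det = M.det := by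
  rw [extend4, Matrix.det_reindexAlgEquiv, Matrix.det_fromBlocks_zero₂₁]
  simp

theorem extend4_mulVec (M : Matrix (Fin 3) (Fin 3) K) (u : Fin (3 + 1) → K) (i : Fin 3 ⊕ Fin 1) :
    (extend4 M *ᵥ u) (finSumFinEquiv i) =
      Sum.elim (M *ᵥ fun j => u (finSumFinEquiv (.inl j : Fin 3 ⊕ Fin 1)))
        (fun j => u (finSumFinEquiv (.inr j : Fin 3 ⊕ Fin 1))) i := by
  rw [extend4, Matrix.reindexAlgEquiv_apply, Matrix.reindex_apply, Matrix.submatrix_mulVec_equiv]
  rcases i with i | i <;> simp [Matrix.fromBlocks_mulVec, Function.comp_def]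

theorem extend4_mem {A : SpecialLinearGroup (Fin 3) K} (hA : A ∈ Cfsg.SU 3 K q) :
    (⟨extend4 A.1, (extend4_det A.1).trans A.2⟩ : SpecialLinearGroup (Fin 4) K) ∈ Cfsg.SU 4 K q := by
  intro u v
  show Cfsg.hermForm 4 K q (extend4 A.1 *ᵥ u) (extend4 A.1 *ᵥ v) = Cfsg.hermForm 4 K q u v
  unfold Cfsg.hermForm
  refine (Equiv.sum_comp (finSumFinEquiv : Fin 3 ⊕ Fin 1 ≃ Fin (3 + 1)) _).symm.trans ?_
  refine Eq.trans ?_ (Equiv.sum_comp (finSumFinEquiv : Fin 3 ⊕ Fin 1 ≃ Fin (3 + 1)) _)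
  rw [Fintype.sum_sum_type, Fintype.sum_sum_type]
  simp only [extend4_mulVec, Sum.elim_inl, Sum.elim_inr]
  congr 1
  exact hA _ _

/-- The embedding of `SU₃` in `SU₄`. -/
def embed4 : Cfsg.SU 3 K q →* Cfsg.SU 4 K q where
  toFun A := ⟨⟨extend4 A.1.1, (extend4_det A.1.1).trans A.1.2⟩, extend4_mem A.2⟩
  map_one' := Subtype.ext (Subtype.ext extend4_one)
  map_mul' A B := Subtype.ext (Subtype.ext (extend4_mul A.1.1 B.1.1))

theorem embed4_injective : Function.Injective (embed4 (K := K) (q := q)) := fun A B h => by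
  have h' : extend4 A.1.1 = extend4 B.1.1 := congrArg (fun X : Cfsg.SU 4 K q => X.1.1) h
  exact Subtype.ext (Subtype.ext
    (Matrix.fromBlocks_inj.1 ((Matrix.reindexAlgEquiv K K finSumFinEquiv).injective h')).1)

theorem su3_index (hK : Fintype.card K = 3 ^ 2) (H : Subgroup (Cfsg.SU 3 K 3)) (hH : H ≠ ⊤) : 28 ≤ H.index := by
  obtain ⟨σ, hσ, hc⟩ := exists_frob hK
  have C : MinIndexU3.U3 (stdHerm σ 3) 3 :=
    ⟨stdHerm_isHermitian hc 3, stdHerm_sepRight 3, Module.finrank_fin_fun K, hK, hσ⟩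
  let e := suEquiv (n := 3) hσ
  have h := MinIndexU3.index_ge C (H.map (e : _ →* _)) le_rfl (by norm_num) fun htop => hH ?_
  · rw [Subgroup.index_map_equiv] at h
    norm_num at h
    exact h
  · rw [← Subgroup.index_eq_one, Subgroup.index_map_equiv] at htop
    exact Subgroup.index_eq_one.1 htop

theorem card_su (hK : Fintype.card K = 3 ^ 2) :
    Nat.card (Cfsg.SU 3 K 3) = 6048 ∧ Nat.card (Cfsg.SU 4 K 3) = 13063680 := by
  constructor
  · have h := card_SU_mul (n := 3) hK (by norm_num)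
    rw [card_GU hK 3] at h
    simp [Finset.prod_range_succ, Nat.even_iff] at h
    omega
  · have h := card_SU_mul (n := 4) hK (by norm_num)
    rw [card_GU hK 4] at h
    simp [Finset.prod_range_succ, Nat.even_iff] at h
    omega

/-- No subgroup of `PSU₄(3)` has index 81. -/
theorem no_index_81 (hK : Fintype.card K = 3 ^ 2) (H : Subgroup (Cfsg.PSU 4 K 3)) : H.index ≠ 81 := by
  classical
  intro h81
  obtain ⟨h3, h4⟩ := card_su hK
  set H' := H.comap (QuotientGroup.mk' (Subgroup.center (Cfsg.SU 4 K 3))) with hH'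
  have hidx : H'.index = 81 := by
    rw [hH', Subgroup.index_comap_of_surjective _ (QuotientGroup.mk'_surjective _), h81]
  have hH'card : Nat.card H' = 161280 := by
    have := Subgroup.card_mul_index H'
    rw [hidx, h4] at this
    omega
  let Ω := Cfsg.SU 4 K 3 ⧸ H'
  have hΩ : Nat.card Ω = 81 := hidx
  let : MulAction (Cfsg.SU 3 K 3) Ω := MulAction.compHom Ω embed4
  have horb : ∀ x : Ω, 28 ≤ (orbit (Cfsg.SU 3 K 3) x).ncard ∧ (orbit (Cfsg.SU 3 K 3) x).ncard ∣ 6048 := by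
    intro x
    rw [← index_stabilizer]
    refine ⟨su3_index hK _ fun htop => ?_, h3 ▸ Subgroup.index_dvd_card _⟩
    obtain ⟨g, rfl⟩ := QuotientGroup.mk_surjective x
    have hmem : ∀ a : Cfsg.SU 3 K 3, g⁻¹ * embed4 a * g ∈ H' := fun a => by
      have h : a ∈ stabilizer (Cfsg.SU 3 K 3) (g : Ω) := htop ▸ Subgroup.mem_top a
      have h' : ((embed4 a * g : Cfsg.SU 4 K 3) : Ω) = (g : Ω) := h
      rw [mul_assoc]
      simpa using H'.inv_mem (QuotientGroup.eq.1 h')
    let f : Cfsg.SU 3 K 3 →* H' :=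
      ((MulAut.conj g⁻¹).toMonoidHom.comp embed4).codRestrict H' fun a => by simpa using hmem a
    have hf : Function.Injective f := fun a b h =>
      embed4_injective ((MulAut.conj g⁻¹).injective (congrArg Subtype.val h))
    have hdvd := Subgroup.card_dvd_of_injective f hf
    rw [h3, hH'card] at hdvd
    norm_num at hdvd
  obtain ⟨x⟩ : Nonempty Ω := inferInstance
  have hu : (Set.univ : Set Ω).ncard = 81 := by rw [Set.ncard_univ, hΩ]
  obtain ⟨h1, h1'⟩ := horb x
  obtain ⟨y, hy⟩ : ∃ y, y ∉ (orbit (Cfsg.SU 3 K 3) x) := by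
    by_contra! hall
    have : (orbit (Cfsg.SU 3 K 3) x) = Set.univ := Set.eq_univ_of_forall hall
    rw [this, hu] at h1'
    norm_num at h1'
  obtain ⟨h2, h2'⟩ := horb y
  have hd : ∀ {a b : Ω}, b ∉ orbit (Cfsg.SU 3 K 3) a →
      Disjoint (orbit (Cfsg.SU 3 K 3) a) (orbit (Cfsg.SU 3 K 3) b) := fun {a b} hb => by
    rw [Set.disjoint_left]
    intro z hza hzb
    exact hb (by rw [← orbit_eq_iff.2 hza, orbit_eq_iff.2 hzb]; exact mem_orbit_self b)
  have hle : (orbit (Cfsg.SU 3 K 3) x).ncard + (orbit (Cfsg.SU 3 K 3) y).ncard ≤ 81 := by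
    rw [← Set.ncard_union_eq (hd hy) (Set.toFinite _) (Set.toFinite _), ← hu]
    exact Set.ncard_le_ncard (Set.subset_univ _)
  rcases hle.lt_or_eq with hlt | heq
  · obtain ⟨z, hz⟩ : ∃ z, z ∉ (orbit (Cfsg.SU 3 K 3) x) ∪ (orbit (Cfsg.SU 3 K 3) y) := by
      by_contra! hall
      have : (orbit (Cfsg.SU 3 K 3) x) ∪ (orbit (Cfsg.SU 3 K 3) y) = Set.univ := Set.eq_univ_of_forall hall
      rw [← Set.ncard_union_eq (hd hy) (Set.toFinite _) (Set.toFinite _), this, hu] at hlt
      omega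
    rw [Set.mem_union, not_or] at hz
    obtain ⟨h5, -⟩ := horb z
    have hdis : Disjoint ((orbit (Cfsg.SU 3 K 3) x) ∪ (orbit (Cfsg.SU 3 K 3) y)) (orbit (Cfsg.SU 3 K 3) z) :=
      Set.disjoint_union_left.2 ⟨hd hz.1, hd hz.2⟩
    have := Set.ncard_le_ncard (Set.subset_univ ((orbit (Cfsg.SU 3 K 3) x) ∪ (orbit (Cfsg.SU 3 K 3) y) ∪ orbit (Cfsg.SU 3 K 3) z))
    rw [Set.ncard_union_eq hdis (Set.toFinite _) (Set.toFinite _),
      Set.ncard_union_eq (hd hy) (Set.toFinite _) (Set.toFinite _), hu] at this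
    omega
  · have key : ∀ d < 54, 28 ≤ d → d ∣ 6048 → ¬ (81 - d) ∣ 6048 := by decide
    exact key _ (by omega) h1 h1' (by rwa [show 81 - (orbit (Cfsg.SU 3 K 3) x).ncard = (orbit (Cfsg.SU 3 K 3) y).ncard by omega])

end CfsgLib.KnownA.MinIndexU4
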