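import Cfsg.Agent.Lib.KnownA.MinIndexOrth.Families
import Cfsg.Agent.Lib.Orth.WittIndex

/-!
# Minimal index of `PΩ⁻₆(q)`: the radical of a point stabiliser

`W` is the anisotropic extension of a hyperbolic plane: dimension four, Witt index one.
-/

set_option autoImplicit false
set_option linter.unusedSectionVars false

open Module QuadraticMap CfsgLib.Orth CfsgLib.Classical
open CfsgLib.KnownA.MinIndexOrth (ee ff iw iw_apply split q_ee q_ff q_iw b_ee_iw b_ff_iw b_iw emb emb_apply Om)

namespace CfsgLib.KnownA.MinIndexU4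

variable {F W : Type*} [Field F] [AddCommGroup W] [Module F W] [FiniteDimensional F W]

/-- A non-degenerate four-dimensional form of Witt index one. -/
structure Setup [Fintype F] (R : QuadraticForm F W) : Prop where
  nd : (QuadraticMap.polarBilin R).Nondegenerate
  four : finrank F W = 4
  hts : ∀ a c : W, a ≠ 0 → R a = 0 → R c = 0 → polar R a c = 0 → ∃ t : F, c = t • a
  iso : ∃ a : W, a ≠ 0 ∧ R a = 0
  hval : ∀ a : W, a ≠ 0 → R a = 0 → ∀ r : F, r ≠ 0 → ∃ b, polar R a b = 0 ∧ R b = r

variable [Fintype F] {R : QuadraticForm F W} (S : Setup R)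

include S

theorem Setup.five' : 5 ≤ finrank F (W × (F × F)) := by
  have := S.four
  rw [Module.finrank_prod, Module.finrank_prod, finrank_self]
  omega

theorem Setup.ndV : (QuadraticMap.polarBilin (plusPlane R)).Nondegenerate := plusPlane_nondeg S.nd

theorem Setup.goodV : Good F (W × (F × F)) := Or.inr (by have := S.five'; omega)

theorem Setup.hypV : Nonempty (HypPairs (plusPlane R)) := exists_hypPairs S.ndV S.five'

/-- Every Siegel transformation lies in `Ω`. -/
theorem Setup.siegel_mem {g : orthGroup (plusPlane R)} {d u : W × (F × F)} (h : IsSiegel g d u) :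
    g ∈ commutator (orthGroup (plusPlane R)) :=
  h.mem_commutator S.ndV S.goodV S.hypV.some S.five'

/-- A Siegel transformation as an element of `Ω`. -/
noncomputable def Setup.sgl (d u : W × (F × F)) (hd : plusPlane R d = 0)
    (hdu : polar (plusPlane R) d u = 0) : Om R :=
  ⟨(exists_isSiegel S.ndV hd hdu).choose, S.siegel_mem (exists_isSiegel S.ndV hd hdu).choose_spec⟩

theorem Setup.sgl_spec (d u : W × (F × F)) (hd : plusPlane R d = 0)
    (hdu : polar (plusPlane R) d u = 0) : IsSiegel (S.sgl d u hd hdu).1 d u :=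
  (exists_isSiegel S.ndV hd hdu).choose_spec

/-- The element of the radical with parameter `u`. -/
noncomputable def Setup.x (u : W) : Om R := S.sgl ee (iw u) (q_ee R) (b_ee_iw R u)

theorem Setup.x_spec (u : W) : IsSiegel (S.x u).1 ee (iw u) := S.sgl_spec _ _ _ _

theorem Setup.x_zero : S.x 0 = 1 := by
  refine Subtype.ext (IsSiegel.unique (S.x_spec 0) ?_)
  rw [map_zero]
  exact isSiegel_one (q_ee R)

theorem Setup.x_add (u v : W) : S.x (u + v) = S.x u * S.x v := by
  refine Subtype.ext (IsSiegel.unique (S.x_spec _) ?_)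
  rw [map_add]
  exact (S.x_spec u).mul (S.x_spec v)

theorem Setup.x_pow (u : W) (n : ℕ) : S.x u ^ n = S.x (n • u) := by
  induction n with
  | zero => rw [pow_zero, zero_smul, S.x_zero]
  | succ n ih => rw [pow_succ, ih, succ_nsmul, S.x_add]

/-- A parameter of a Siegel transformation at `ee` only matters modulo `ee`. -/
theorem Setup.x_of_siegel {g : Om R} {u : W × (F × F)} (h : IsSiegel g.1 ee u) : g = S.x u.1 := by
  have hu := h.2.1
  have h2 : u.2.2 = 0 := by simpa [plusPlane_polar, ee] using hu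
  have hu' : u = iw u.1 + u.2.1 • ee := by
    conv_lhs => rw [split u]
    rw [h2, zero_smul, add_zero]
  refine Subtype.ext (h.unique ?_)
  rw [hu']
  have h1 : IsSiegel ((S.x u.1).1 * 1) ee (iw u.1 + u.2.1 • ee) :=
    (S.x_spec u.1).mul (isSiegel_one_smul (q_ee R) _)
  rw [mul_one] at h1
  simpa [iw, ee] using h1

/-- `n` acts on the radical by `u ↦ α σ u`. -/
def Setup.Moves (n : Om R) (α : F) (σ : orthGroup R) : Prop :=
  ∀ u, n * S.x u * n⁻¹ = S.x (α • σ.1 u)

theorem Setup.moves_of {n : Om R} {α : F} (hα : α ≠ 0) {σ : orthGroup R}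
    (h1 : n.1.1 ee = α • ee) (h2 : ∀ u, n.1.1 (iw u) = iw (σ.1 u)) : S.Moves n α σ := by
  intro u
  refine Subtype.ext ?_
  have h := (S.x_spec u).conj n.1
  rw [h1, h2] at h
  have h' := h.of_smul hα
  rw [← map_smul] at h'
  exact h'.unique (S.x_spec _)

theorem Setup.moves_mul {n n' : Om R} {α α' : F} {σ σ' : orthGroup R} (h : S.Moves n α σ)
    (h' : S.Moves n' α' σ') : S.Moves (n * n') (α * α') (σ * σ') := by
  intro u
  calc n * n' * S.x u * (n * n')⁻¹ = n * (n' * S.x u * n'⁻¹) * n⁻¹ := by group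
    _ = n * S.x (α' • σ'.1 u) * n⁻¹ := by rw [h' u]
    _ = S.x (α • σ.1 (α' • σ'.1 u)) := h _
    _ = _ := by rw [map_smul, smul_smul]; rfl

/-- Siegel transformations generate. -/
theorem Setup.eq_top_of_siegel {H : Subgroup (Om R)}
    (h : ∀ (g : Om R) (d u : W × (F × F)), IsSiegel g.1 d u → g ∈ H) : H = ⊤ := by
  refine eq_top_iff.2 fun g _ => ?_
  have hle : siegelGroup (plusPlane R) ≤ H.map (commutator (orthGroup (plusPlane R))).subtype := by
    refine (Subgroup.closure_le _).2 ?_
    rintro k ⟨d, u, hk⟩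
    exact ⟨⟨k, S.siegel_mem hk⟩, h _ d u hk, rfl⟩
  rw [← commutator_eq_siegelGroup S.ndV S.goodV S.hypV.some S.five'] at hle
  obtain ⟨k, hk, hkg⟩ := hle g.2
  rwa [← Subtype.ext hkg]

end CfsgLib.KnownA.MinIndexU4
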