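import Cfsg.Agent.Lib.KnownA.MinIndexU4.Kinds

/-!
# Minimal index of `PΩ⁻₆(q)`: annihilators containing a non-singular vector
-/

set_option autoImplicit false
set_option linter.unusedSectionVars false

open Module QuadraticMap CfsgLib.Orth CfsgLib.Classical Finset
open scoped LinearAlgebra.Projectivization
open CfsgLib.KnownA.MinIndexOrth (ee ff iw iw_apply split q_ee q_ff q_iw b_ee_iw b_ff_iw b_iw emb emb_apply Om sing cls mem_sing mem_cls)

namespace CfsgLib.KnownA.MinIndexU4

variable {F W : Type*} [Field F] [Fintype F] [AddCommGroup W] [Module F W] [FiniteDimensional F W]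
  [Fintype W] [DecidableEq W] {R : QuadraticForm F W} {Ω : Type*} [Fintype Ω] [DecidableEq Ω]

namespace Setup

variable (S : Setup R)
include S

theorem ne_zero_of_perp_pair {a b c : W} (ha : R a = 0) (hab : polar R a b = 1) (hac : polar R a c = 0)
    (hbc : polar R b c = 0) (hc : c ≠ 0) : R c ≠ 0 := by
  intro h
  have ha0 : a ≠ 0 := fun e => by rw [e, polar_zero_left] at hab; exact zero_ne_one hab
  obtain ⟨t, rfl⟩ := S.hts a c ha0 ha h hac
  rw [polar_smul_r', polar_comm, hab, mul_one] at hbc
  exact hc (by rw [hbc, zero_smul])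

theorem exists_third (a b u : W) : ∃ c, c ≠ 0 ∧ polar R a c = 0 ∧ polar R b c = 0 ∧ polar R u c = 0 := by
  classical
  set T := Submodule.span F ({a, b, u} : Set W)
  have hT : finrank F T ≤ 3 := by
    have h := finrank_span_finset_le_card (R := F) ({a, b, u} : Finset W)
    rw [Set.finrank, show (({a, b, u} : Finset W) : Set W) = {a, b, u} by simp] at h
    exact h.trans Finset.card_le_three
  have hdim : LinearMap.BilinForm.orthogonal (QuadraticMap.polarBilin R) T ≠ ⊥ := fun h => by
    have h' := congrArg (fun U : Submodule F W => finrank F U) h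
    simp only [LinearMap.BilinForm.finrank_orthogonal S.nd, finrank_bot, S.four] at h'
    omega
  obtain ⟨c, hc, hc0⟩ := Submodule.exists_mem_ne_zero_of_ne_bot hdim
  exact ⟨c, hc0, hc a (Submodule.subset_span (by simp)), hc b (Submodule.subset_span (by simp)),
    hc u (Submodule.subset_span (by simp))⟩

theorem perp_three_mem {a b c u y : W} (ha : R a = 0) (hb : R b = 0) (hab : polar R a b = 1) (hc : c ≠ 0)
    (hac : polar R a c = 0) (hbc : polar R b c = 0) (hu : u ≠ 0) (hua : polar R u a = 0) (hub : polar R u b = 0)
    (huc : polar R u c = 0) (hay : polar R a y = 0) (hby : polar R b y = 0) (hcy : polar R c y = 0) :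
    ∃ t : F, y = t • u := by
  classical
  set T := Submodule.span F (Set.range ![a, b, c])
  have hli : LinearIndependent F ![a, b, c] := by
    rw [Fintype.linearIndependent_iff]
    intro g hg
    simp only [Fin.sum_univ_three, Matrix.cons_val_zero, Matrix.cons_val_one, Matrix.cons_val] at hg
    have h1 := congrArg (polar R a) hg
    have h2 := congrArg (polar R b) hg
    simp only [polar_add_right, polar_smul_r', polar_self', polar_zero_right, ha, hb, hab, hac, hbc,
      polar_comm _ b a] at h1 h2
    ring_nf at h1 h2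
    rw [h1, h2, zero_smul, zero_smul, zero_add, zero_add, smul_eq_zero] at hg
    intro i
    fin_cases i
    · exact h2
    · exact h1
    · exact hg.resolve_right hc
  have hT : finrank F T = 3 := by rw [finrank_span_eq_card hli, Fintype.card_fin]
  have hmem : ∀ x, polar R a x = 0 → polar R b x = 0 → polar R c x = 0 →
      x ∈ LinearMap.BilinForm.orthogonal (QuadraticMap.polarBilin R) T := by
    intro x h1 h2 h3 z hz
    show polar R z x = 0
    induction hz using Submodule.span_induction with
    | mem z hz =>
      obtain ⟨i, rfl⟩ := hz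
      fin_cases i
      · exact h1
      · exact h2
      · exact h3
    | zero => exact polar_zero_left (Q := R) x
    | add z w _ _ e1 e2 => rw [polar_add_left, e1, e2, add_zero]
    | smul s z _ e1 => rw [polar_smul_l', e1, mul_zero]
  have hu' := hmem u (by rwa [polar_comm]) (by rwa [polar_comm]) (by rwa [polar_comm])
  have hle : Submodule.span F ({u} : Set W) ≤ LinearMap.BilinForm.orthogonal (QuadraticMap.polarBilin R) T :=
    (Submodule.span_singleton_le_iff_mem _ _).2 hu'
  have heq := Submodule.eq_of_le_of_finrank_eq hle (by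
    rw [finrank_span_singleton hu, LinearMap.BilinForm.finrank_orthogonal S.nd, S.four, hT])
  have hy := hmem y hay hby hcy
  rw [← heq, Submodule.mem_span_singleton] at hy
  obtain ⟨t, ht⟩ := hy
  exact ⟨t, ht.symm⟩

end Setup

namespace Act

variable (A : Act R Ω) {p : ℕ} [Fact p.Prime] [CharP F p] {ω : Ω} {u : W}

/-- Closure of the annihilator under the differences of the Siegel transformations fixing `u`. -/
theorem siegel_diff (huU : u ∈ A.ann ω) (hk : (A.above u).card < p) {a c : W} (ha : R a = 0)
    (hac : polar R a c = 0) (hua : polar R u a = 0) (huc : polar R u c = 0) {y : W} (hy : y ∈ A.ann ω) :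
    polar R a y • c + (-(polar R c y) - R c * polar R a y) • a ∈ A.ann ω := by
  obtain ⟨g, σ, hg, hσ, hn⟩ := A.S.exists_lev ha hac
  have hgu : σ.1 u = u := by
    rw [hσ.2.2, polar_comm _ a u, hua, polar_comm _ c u, huc]; simp
  have hO := A.fix_small_family (p := p) Fact.out (A.S.lev_pow_char (p := p) hg) (T := A.above u) (fun O hO => by
    have := A.above_moves hn one_ne_zero hO
    rwa [inv_one, one_smul, hgu] at this) hk (A.mem_above.2 huU)
  have hy' := (A.ann_moves hn one_ne_zero).1 hy
  rw [inv_one, one_smul, hσ.2.2] at hy'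
  have hmem : A.π g ω ∈ A.orb ω := hO ▸ mem_image_of_mem _ (A.self_mem ω)
  rw [A.ann_eq hmem, add_assoc] at hy'
  have := A.ann_add hy' (A.ann_neg hy)
  rwa [add_neg_cancel_comm] at this

/-- In odd characteristic an element meeting a singular vector gives its whole line. -/
theorem step_odd (huU : u ∈ A.ann ω) (hk : (A.above u).card < p) (h2 : (2 : F) ≠ 0) {a y : W} (ha0 : a ≠ 0)
    (ha : R a = 0) (hua : polar R u a = 0) (hy : y ∈ A.ann ω) (hay : polar R a y ≠ 0) (t : F) :
    t • a ∈ A.ann ω := by
  obtain ⟨c, hac, huc, hc⟩ := A.S.exists_perp_nonsing ha0 ha u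
  have e : ∀ r : F, polar R a y • (r • c) + (-(polar R (r • c) y) - R (r • c) * polar R a y) • a ∈ A.ann ω :=
    fun r => A.siegel_diff huU hk ha (by rw [polar_smul_r', hac, mul_zero]) hua
      (by rw [polar_smul_r', huc, mul_zero]) hy
  set r := -t / (2 * R c * polar R a y)
  have := A.ann_add (e (r + 1)) (A.ann_neg (A.ann_add (e r) (e 1)))
  convert this using 1
  simp only [quad_smul', polar_smul_l']
  match_scalars <;> (try simp only [r]) <;> field_simp <;> ring

/-- In characteristic two: the elements obtained from one orthogonal to `u`. -/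
theorem step_two (huU : u ∈ A.ann ω) (hk : (A.above u).card < p) (h2 : (2 : F) = 0) {a y : W}
    (ha : R a = 0) (hua : polar R u a = 0) (hy : y ∈ A.ann ω) (huy : polar R u y = 0) (r : F) :
    (r * polar R a y) • u + (r * r * (R u * polar R a y)) • a ∈ A.ann ω := by
  have := A.siegel_diff huU hk ha (c := r • u) (by rw [polar_smul_r', polar_comm, hua, mul_zero]) hua
    (by rw [polar_smul_r', polar_self', h2, zero_mul, mul_zero]) hy
  have hneg : ∀ x : F, -x = x := fun x => by linear_combination (-x) * h2
  convert this using 1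
  rw [polar_smul_l', huy, quad_smul', hneg, mul_zero, zero_sub, hneg, smul_smul, mul_assoc (r * r),
    mul_comm (polar R a y) r]

/-- A line of singular vectors spreads to the singular vectors not orthogonal to it. -/
theorem step (huU : u ∈ A.ann ω) (hk : (A.above u).card < p) (hu : R u ≠ 0) {a b : W} (ha : R a = 0)
    (hua : polar R u a = 0) (hub : polar R u b = 0) (hbU : ∀ t : F, t • b ∈ A.ann ω) (hab : polar R a b ≠ 0)
    (t : F) : t • a ∈ A.ann ω := by
  have ha0 : a ≠ 0 := fun e => hab (by rw [e, polar_zero_left])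
  by_cases h2 : (2 : F) = 0
  · by_cases ht : t = 0
    · rw [ht, zero_smul]; exact A.zero_mem ω
    set s := R u / (t * polar R a b)
    have := A.step_two huU hk h2 ha hua (hbU s) (by rw [polar_smul_r', hub, mul_zero]) (t / R u)
    have := A.ann_add this (A.ann_neg huU)
    convert this using 1
    simp only [polar_smul_r', s]
    match_scalars <;> field_simp <;> ring
  · exact A.step_odd huU hk h2 ha0 ha hua (by simpa using hbU 1) hab t

/-- An element orthogonal to `u` outside its line gives the whole orthogonal. -/
theorem perp_subset (huU : u ∈ A.ann ω) (hk : (A.above u).card < p) (hu : R u ≠ 0) {y : W} (hy : y ∈ A.ann ω)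
    (huy : polar R u y = 0) (hyu : y ∉ Submodule.span F ({u} : Set W)) :
    ∀ w, polar R u w = 0 → w ∈ A.ann ω := by
  obtain ⟨a₀, ha₀, hua₀, hya₀⟩ : ∃ a, R a = 0 ∧ polar R u a = 0 ∧ polar R a y ≠ 0 := by
    by_contra! hall
    obtain ⟨z, hz, hz1⟩ := exists_polar_one A.S.nd hyu
    obtain ⟨a, b, c, ha, hb, hc, hua, hub, huc, r, s, rfl⟩ :=
      A.S.span_perp hu (z := z) (by rw [polar_comm]; exact hz u (Submodule.mem_span_singleton_self u))
    rw [polar_add_left, polar_add_left, polar_smul_l', polar_smul_l', hall a ha hua, hall b hb hub,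
      hall c hc huc] at hz1
    simp at hz1
  have ha₀0 : a₀ ≠ 0 := fun e => hya₀ (by rw [e, polar_zero_left])
  obtain ⟨b₀, hb₀, hab₀, hub₀, hB⟩ : ∃ b, R b = 0 ∧ b ≠ 0 ∧ polar R u b = 0 ∧ ∀ t : F, t • b ∈ A.ann ω := by
    by_cases h2 : (2 : F) = 0
    · obtain ⟨b, hb, hab, hub⟩ := A.S.exists_partner ha₀ hua₀ (fun h => by
        obtain ⟨t, rfl⟩ := Submodule.mem_span_singleton.1 h
        rw [quad_smul'] at ha₀
        exact ha₀0 (by rw [mul_self_eq_zero.1 ((mul_eq_zero.1 ha₀).resolve_right hu), zero_smul]))
      refine ⟨b, hb, fun e => by rw [e, polar_zero_right] at hab; exact zero_ne_one hab, hub, fun t => ?_⟩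
      by_cases ht : t = 0
      · rw [ht, zero_smul]; exact A.zero_mem ω
      have hcp : ringChar F = 2 := by
        refine CharP.ringChar_of_prime_eq_zero Nat.prime_two ?_
        exact_mod_cast h2
      obtain ⟨r, hr⟩ := FiniteField.isSquare_of_char_two hcp (t⁻¹ / polar R a₀ y)
      have hz := A.step_two huU hk h2 ha₀ hua₀ hy huy r
      set z := (r * polar R a₀ y) • u + (r * r * (R u * polar R a₀ y)) • a₀ with hz'
      have huz : polar R u z = 0 := by
        simp only [hz', polar_add_right, polar_smul_r', polar_self', h2, hua₀]; ring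
      have hbz : polar R b z = R u / t := by
        simp only [hz', polar_add_right, polar_smul_r', polar_comm _ b u, hub, polar_comm _ b a₀, hab, ← hr]
        field_simp
        ring
      have := A.ann_add (A.step_two huU hk h2 hb hub hz huz (t / R u)) (A.ann_neg huU)
      convert this using 1
      rw [hbz]
      match_scalars <;> field_simp <;> ring
    · exact ⟨a₀, ha₀, ha₀0, hua₀, A.step_odd huU hk h2 ha₀0 ha₀ hua₀ hy hya₀⟩
  have all : ∀ x, R x = 0 → polar R u x = 0 → ∀ t : F, t • x ∈ A.ann ω := by
    intro x hx hux t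
    by_cases hxb : polar R x b₀ = 0
    · obtain ⟨s, rfl⟩ := A.S.hts b₀ x hab₀ hb₀ hx (by rwa [polar_comm])
      rw [smul_smul]; exact hB _
    · exact A.step huU hk hu hx hux hub₀ hB hxb t
  intro z hz
  obtain ⟨a, b, c, ha, hb, hc, hua, hub, huc, r, s, rfl⟩ := A.S.span_perp hu hz
  exact A.ann_add (A.ann_add (by simpa using all c hc huc 1) (all a ha hua r)) (all b hb hub s)

/-- An annihilator with a non-singular vector lying in few orbits: a line, a hyperplane, or, over the field of
two elements, a small exception. -/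
theorem dichotomy (hu : R u ≠ 0) (huU : u ∈ A.ann ω) (hk : (A.above u).card < p) :
    (∀ w, w ∈ A.ann ω → ∃ t : F, w = t • u) ∨ (∀ w, polar R u w = 0 → w ∈ A.ann ω) ∨
      (Fintype.card F = 2 ∧ (∃ y ∈ A.ann ω, ∀ t : F, y ≠ t • u) ∧ ∀ w ∈ A.ann ω, R w ≠ 0 → w = u) := by
  refine or_iff_not_imp_left.2 fun hout => ?_
  push Not at hout
  by_cases hperp : ∃ z ∈ A.ann ω, polar R u z = 0 ∧ z ∉ Submodule.span F ({u} : Set W)
  · obtain ⟨z, hz, huz, hzu⟩ := hperp
    exact Or.inl (A.perp_subset huU hk hu hz huz hzu)
  push Not at hperp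
  have hu0 : u ≠ 0 := fun e => hu (by rw [e, QuadraticMap.map_zero])
  obtain ⟨a, b, ha, hb, hab, hua, hub⟩ := A.S.exists_pair_perp hu
  -- the differences lie in the line of `u`
  have hline : ∀ (d e : W), R d = 0 → polar R u d = 0 → polar R u e = 0 → polar R d e = 1 →
      ∀ c, polar R d c = 0 → polar R e c = 0 → polar R u c = 0 → ∀ r : F, ∀ y ∈ A.ann ω,
        r * (polar R c y + r * (R c * polar R d y)) = 0 := by
    intro d e hd hud hue hde c hdc hec huc r y hy
    have hmem := A.siegel_diff huU hk hd (c := r • c) (by rw [polar_smul_r', hdc, mul_zero]) hud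
      (by rw [polar_smul_r', huc, mul_zero]) hy
    obtain ⟨s, hs⟩ := Submodule.mem_span_singleton.1 (hperp _ hmem (by
      simp only [polar_add_right, polar_smul_r', huc, hud]; ring))
    have h := congrArg (polar R e) hs
    simp only [polar_add_right, polar_smul_r', polar_smul_l', quad_smul', hec, polar_comm _ e d, hde,
      polar_comm _ e u, hue] at h
    linear_combination h
  have hba : polar R b a = 1 := by rw [polar_comm]; exact hab
  by_cases hq : Fintype.card F = 2
  · refine Or.inr ⟨hq, ?_, fun w hw hRw => ?_⟩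
    · obtain ⟨y, hy, hyu⟩ := hout
      exact ⟨y, hy, hyu⟩
    have hval : ∀ x : F, x ≠ 0 → x = 1 := fun x hx => by
      have := FiniteField.pow_card_sub_one_eq_one x hx
      rwa [hq, pow_one] at this
    have h2 : (2 : F) = 0 := by
      have hr : ((Fintype.card F : ℕ) : F) = 0 := FiniteField.cast_card_eq_zero F
      rw [hq] at hr
      exact_mod_cast hr
    by_cases huw : polar R u w = 0
    · obtain ⟨s, hs⟩ := Submodule.mem_span_singleton.1 (hperp w hw huw)
      have hs0 : s ≠ 0 := fun e => hRw (by rw [← hs, e, zero_smul, QuadraticMap.map_zero])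
      rw [← hs, hval s hs0, one_smul]
    exfalso
    have huu : polar R u u = 0 := by rw [polar_self', h2, zero_mul]
    have e1 := hline a b ha hua hub hab u (by rw [polar_comm]; exact hua) (by rw [polar_comm]; exact hub) huu
      1 w hw
    have e2 := hline b a hb hub hua hba u (by rw [polar_comm]; exact hub) (by rw [polar_comm]; exact hua) huu
      1 w hw
    rw [hval _ huw, hval _ hu] at e1 e2
    have hwa : polar R a w = 1 := by linear_combination e1 - h2
    have hwb : polar R b w = 1 := by linear_combination e2 - h2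
    set w' := w + a + b with hw'
    have k1 : polar R a w' = 0 := by
      simp only [hw', polar_add_right, polar_self', ha, hab, hwa]; linear_combination h2
    have k2 : polar R b w' = 0 := by
      simp only [hw', polar_add_right, polar_self', hb, hba, hwb]; linear_combination h2
    have k3 : polar R u w' = 1 := by
      simp only [hw', polar_add_right, hua, hub, hval _ huw]; ring
    have k4 : R w' = 1 := hval _ (A.S.ne_zero_of_perp_pair ha hab k1 k2
      (fun e => by rw [e, polar_zero_right] at k3; exact zero_ne_one k3))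
    have k5 : R w = 1 := hval _ hRw
    rw [hw', quad_add', quad_add', polar_add_left, ha, hb, hab, polar_comm _ w a, polar_comm _ w b, hwa, hwb,
      k5] at k4
    exact one_ne_zero (show (1 : F) = 0 by linear_combination k4 - h2)
  exfalso
  obtain ⟨y, hy, hyu⟩ := hout
  obtain ⟨c, hc0, hac, hbc, huc⟩ := A.S.exists_third a b u
  have hc : R c ≠ 0 := A.S.ne_zero_of_perp_pair ha hab hac hbc hc0
  obtain ⟨r, hr0, hr1⟩ : ∃ r : F, r ≠ 0 ∧ r ≠ 1 := by
    classical
    by_contra! hall
    have hsub : (univ : Finset F) ⊆ {0, 1} := fun x _ => by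
      by_cases hx : x = 0
      · simp [hx]
      · simp [hall x hx]
    have h1 := (Finset.card_le_card hsub).trans Finset.card_le_two
    rw [Finset.card_univ] at h1
    have := Fintype.one_lt_card (α := F)
    omega
  have key : ∀ d, (∀ r : F, r * (polar R c y + r * (R c * polar R d y)) = 0) →
      polar R c y = 0 ∧ polar R d y = 0 := fun d h => by
    have e1 := h 1
    have e2 := (mul_eq_zero.1 (h r)).resolve_left hr0
    have e3 : (r - 1) * (R c * polar R d y) = 0 := by linear_combination e2 - e1
    have e4 := (mul_eq_zero.1 ((mul_eq_zero.1 e3).resolve_left (sub_ne_zero.2 hr1))).resolve_left hc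
    rw [e4] at e1
    exact ⟨by linear_combination e1, e4⟩
  obtain ⟨hcy, hay⟩ := key a fun s => hline a b ha hua hub hab c hac hbc huc s y hy
  obtain ⟨-, hby⟩ := key b fun s => hline b a hb hub hua hba c hbc hac huc s y hy
  obtain ⟨t, ht⟩ := A.S.perp_three_mem ha hb hab hc0 hac hbc hu0 hua hub huc hay hby hcy
  exact hyu t ht

end Act

end CfsgLib.KnownA.MinIndexU4
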