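import Cfsg.Agent.Lib.KnownA.MinIndexU4.Basic

/-!
# Minimal index of `PΩ⁻₆(q)`: the four-dimensional space
-/

set_option autoImplicit false
set_option linter.unusedSectionVars false

open Module QuadraticMap CfsgLib.Orth CfsgLib.Classical
open CfsgLib.KnownA.MinIndexOrth (ee ff iw iw_apply split q_ee q_ff q_iw b_ee_iw b_ff_iw b_iw emb emb_apply Om)

namespace CfsgLib.KnownA.MinIndexU4

variable {F W : Type*} [Field F] [AddCommGroup W] [Module F W] [FiniteDimensional F W]
variable [Fintype F] {R : QuadraticForm F W} (S : Setup R)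

include S

/-- An isometry moving one non-zero vector to another of the same norm. -/
theorem Setup.exists_map {u w : W} (hu : u ≠ 0) (hw : w ≠ 0) (h : R u = R w) :
    ∃ σ : orthGroup R, σ.1 u = w := by
  obtain ⟨g, hg⟩ := witt_family' S.nd ![u] ![w] (LinearIndependent.of_subsingleton 0 hu)
    (LinearIndependent.of_subsingleton 0 hw) (fun i => by fin_cases i; exact h)
    (fun i j => by fin_cases i; fin_cases j; simp [polar_self', h])
  exact ⟨g, hg 0⟩

/-- A hyperbolic partner orthogonal to a given non-zero vector outside the line. -/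
theorem Setup.exists_partner {a u : W} (ha : R a = 0) (hau : polar R u a = 0)
    (hne : a ∉ Submodule.span F ({u} : Set W)) :
    ∃ b, R b = 0 ∧ polar R a b = 1 ∧ polar R u b = 0 := by
  obtain ⟨c, hc, hca⟩ := exists_polar_one S.nd hne
  have hcu : polar R u c = 0 := by rw [polar_comm]; exact hc u (Submodule.mem_span_singleton_self u)
  refine ⟨c + (-R c) • a, ?_, ?_, ?_⟩
  · rw [quad_add', quad_smul', ha, polar_smul_r', hca]; ring
  · rw [polar_add_right, polar_smul_r', polar_self', ha, polar_comm, hca]; ring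
  · rw [polar_add_right, polar_smul_r', hcu, hau]; ring

theorem Setup.exists_pair : ∃ a b : W, R a = 0 ∧ R b = 0 ∧ polar R a b = 1 := by
  obtain ⟨a, ha0, ha⟩ := S.iso
  obtain ⟨b, h1, h2, -⟩ := S.exists_partner (a := a) (u := 0) ha (polar_zero_left (Q := R) a) (by simpa using ha0)
  exact ⟨a, b, ha, h1, h2⟩

/-- A singular vector orthogonal to a non-singular one. -/
theorem Setup.exists_perp_sing {u : W} (hu : R u ≠ 0) : ∃ a, a ≠ 0 ∧ R a = 0 ∧ polar R u a = 0 := by
  obtain ⟨a, ha0, ha⟩ := S.iso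
  obtain ⟨b, hab, hb⟩ := S.hval a ha0 ha (R u) hu
  have hb0 : b ≠ 0 := fun e => hu (by rw [← hb, e, QuadraticMap.map_zero])
  obtain ⟨σ, hσ⟩ := S.exists_map hb0 (fun e => hu (by rw [e, QuadraticMap.map_zero])) hb
  refine ⟨σ.1 a, by simpa using ha0, (apply_quad σ a).trans ha, ?_⟩
  rw [← hσ, polar_isom, polar_comm, hab]

/-- A hyperbolic pair orthogonal to a non-singular vector. -/
theorem Setup.exists_pair_perp {u : W} (hu : R u ≠ 0) :
    ∃ a b : W, R a = 0 ∧ R b = 0 ∧ polar R a b = 1 ∧ polar R u a = 0 ∧ polar R u b = 0 := by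
  obtain ⟨a, ha0, ha, hua⟩ := S.exists_perp_sing hu
  obtain ⟨b, hb, hab, hub⟩ := S.exists_partner ha hua (by
    rw [Submodule.mem_span_singleton]
    rintro ⟨t, rfl⟩
    rw [quad_smul'] at ha
    exact ha0 (by rw [mul_self_eq_zero.1 ((mul_eq_zero.1 ha).resolve_right hu), zero_smul]))
  exact ⟨a, b, ha, hb, hab, hua, hub⟩

/-- Every non-zero value is taken orthogonally to a given non-zero vector. -/
theorem Setup.perp_value {u : W} (hu0 : u ≠ 0) {r : F} (hr : r ≠ 0) : ∃ b, polar R u b = 0 ∧ R b = r := by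
  by_cases hu : R u = 0
  · exact S.hval u hu0 hu r hr
  obtain ⟨a, b, ha, hb, hab, hua, hub⟩ := S.exists_pair_perp hu
  refine ⟨a + r • b, by rw [polar_add_right, polar_smul_r', hua, hub]; ring, ?_⟩
  rw [quad_add', quad_smul', polar_smul_r', ha, hb, hab]; ring

/-- A non-singular vector orthogonal to a singular one and to any other. -/
theorem Setup.exists_perp_nonsing {a : W} (ha0 : a ≠ 0) (ha : R a = 0) (u : W) :
    ∃ c, polar R a c = 0 ∧ polar R u c = 0 ∧ R c ≠ 0 := by
  classical
  set T := Submodule.span F ({a, u} : Set W)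
  have hT : finrank F T ≤ 2 := by
    have h := finrank_span_finset_le_card (R := F) ({a, u} : Finset W)
    rw [Finset.coe_pair, Set.finrank] at h
    exact h.trans Finset.card_le_two
  have hdim : 2 ≤ finrank F (LinearMap.BilinForm.orthogonal (QuadraticMap.polarBilin R) T) := by
    rw [LinearMap.BilinForm.finrank_orthogonal S.nd, S.four]
    omega
  obtain ⟨c, hc, hca⟩ : ∃ c ∈ LinearMap.BilinForm.orthogonal (QuadraticMap.polarBilin R) T,
      c ∉ Submodule.span F ({a} : Set W) := by
    by_contra! hall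
    have := Submodule.finrank_mono (s := LinearMap.BilinForm.orthogonal (QuadraticMap.polarBilin R) T)
      (t := Submodule.span F ({a} : Set W)) hall
    rw [finrank_span_singleton ha0] at this
    omega
  have h1 : polar R a c = 0 := hc a (Submodule.subset_span (by simp))
  refine ⟨c, h1, hc u (Submodule.subset_span (by simp)), fun hRc => hca ?_⟩
  obtain ⟨t, rfl⟩ := S.hts a c ha0 ha hRc h1
  exact Submodule.smul_mem _ t (Submodule.mem_span_singleton_self a)

/-- The vectors orthogonal to `u` are combinations of singular ones. -/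
theorem Setup.span_perp {u : W} (hu : R u ≠ 0) {z : W} (hz : polar R u z = 0) :
    ∃ a b c : W, R a = 0 ∧ R b = 0 ∧ R c = 0 ∧ polar R u a = 0 ∧
      polar R u b = 0 ∧ polar R u c = 0 ∧ ∃ r s : F, z = c + r • a + s • b := by
  obtain ⟨a, b, ha, hb, hab, hua, hub⟩ := S.exists_pair_perp hu
  set z' := z - polar R b z • a - polar R a z • b with hz'
  have k1 : polar R a z' = 0 := by
    simp only [hz', polar_sub_right, polar_smul_r', polar_self', ha, hab]; ring
  have k2 : polar R b z' = 0 := by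
    simp only [hz', polar_sub_right, polar_smul_r', polar_self', hb, polar_comm _ b a, hab]; ring
  have k3 : polar R u z' = 0 := by
    simp only [hz', polar_sub_right, polar_smul_r', hua, hub, hz]; ring
  refine ⟨a, b, z' + a + (-R z') • b, ha, hb, ?_, hua, hub, ?_, polar R b z - 1, polar R a z + R z', ?_⟩
  · simp only [quad_add', quad_smul', polar_add_left, polar_smul_r', ha, hb, hab, polar_comm _ z' a,
      polar_comm _ z' b, k1, k2]
    ring
  · simp only [polar_add_right, polar_smul_r', hua, hub, k3]; ring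
  · simp only [hz']; module

/-- No non-zero vector is orthogonal to all singular vectors. -/
theorem Setup.exists_sing_not_perp {u : W} (hu : u ≠ 0) : ∃ a, a ≠ 0 ∧ R a = 0 ∧ polar R u a ≠ 0 := by
  by_contra! hall
  obtain ⟨a, b, ha, hb, hab⟩ := S.exists_pair
  have hall' : ∀ x, R x = 0 → polar R u x = 0 := fun x hx => by
    by_cases hx0 : x = 0
    · rw [hx0, polar_zero_right]
    · exact hall x hx0 hx
  obtain ⟨w, -, hw⟩ := exists_polar_one S.nd (W := ⊥) (x := u) (by simpa using hu)
  set w' := w - polar R b w • a - polar R a w • b with hw'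
  have k1 : polar R a w' = 0 := by
    simp only [hw', polar_sub_right, polar_smul_r', polar_self', ha, hab]; ring
  have k2 : polar R b w' = 0 := by
    simp only [hw', polar_sub_right, polar_smul_r', polar_self', hb, polar_comm _ b a, hab]; ring
  have k3 : polar R u w' = 1 := by
    simp only [hw', polar_sub_right, polar_smul_r', hall' a ha, hall' b hb, polar_comm _ u w, hw]; ring
  have h := hall' (a + (-R w') • b + w') (by
    simp only [quad_add', quad_smul', polar_add_left, polar_smul_l', polar_smul_r', ha, hb, hab, k1, k2]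
    ring)
  simp [polar_add_right, polar_smul_r', hall' a ha, hall' b hb, k3] at h

/-- Witnesses to compare fixed points. -/
theorem Setup.exists_witness {u : W} (hu : u ≠ 0) :
    ∃ a c : W, a ≠ 0 ∧ R a = 0 ∧ polar R a c = 0 ∧ R c ≠ 0 ∧ polar R u c = 0 ∧ polar R u a ≠ 0 := by
  obtain ⟨a, ha0, ha, hua⟩ := S.exists_sing_not_perp hu
  obtain ⟨c, h1, h2, h3⟩ := S.exists_perp_nonsing ha0 ha u
  exact ⟨a, c, ha0, ha, h1, h3, h2, hua⟩

/-- A singular vector orthogonal to any vector. -/
theorem Setup.exists_perp_singular (v : W) : ∃ r, r ≠ 0 ∧ R r = 0 ∧ polar R r v = 0 := by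
  by_cases hv : v = 0
  · obtain ⟨a, ha0, ha⟩ := S.iso
    exact ⟨a, ha0, ha, by rw [hv, polar_zero_right]⟩
  by_cases hR : R v = 0
  · exact ⟨v, hv, hR, by rw [polar_self', hR, mul_zero]⟩
  · obtain ⟨a, ha0, ha, h⟩ := S.exists_perp_sing hR
    exact ⟨a, ha0, ha, by rwa [polar_comm]⟩

omit S in
/-- The isometries fixing one vector. -/
def fixVec (R : QuadraticForm F W) (u : W) : Subgroup (orthGroup R) where
  carrier := {g | g.1 u = u}
  one_mem' := rfl
  mul_mem' {g h} hg hh := by
    show g.1 (h.1 u) = u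
    rw [show h.1 u = u from hh]; exact hg
  inv_mem' {g} hg := by
    show g.1.symm u = u
    rw [LinearEquiv.symm_apply_eq]; exact (show g.1 u = u from hg).symm

/-- The Levi complement moves any vector to any other of the same norm, with any scalar. -/
theorem Setup.exists_move {u w : W} (hu : u ≠ 0) (hw : w ≠ 0) (h : R u = R w) {α : F} (hα : α ≠ 0) :
    ∃ (n : Om R) (σ : orthGroup R), S.Moves n α σ ∧ σ.1 u = w := by
  set P := plusPlane R
  obtain ⟨σ₀, hσ₀⟩ := S.exists_map hu hw h
  set k : orthGroup P := torus P ee ff α * emb R σ₀ with hk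
  have hS : ∀ A, P A ≠ 0 → ∃ s ∈ (fixVec R u).map (emb R),
      Abelianization.of s = Abelianization.of (refl P A) := by
    intro A hA
    obtain ⟨b, hub, hb⟩ := S.perp_value hu hA
    refine ⟨emb R (refl R b), ⟨refl R b, refl_fix R (by rw [polar_comm]; exact hub), rfl⟩, ?_⟩
    have e : emb R (refl R b) = refl P (iw b) := by
      refine Subtype.ext (LinearEquiv.ext fun v => ?_)
      rw [emb_apply, refl_apply, refl_apply, q_iw]
      conv_rhs => rw [split v]
      simp [P, plusPlane_polar, iw, ee, ff, Prod.ext_iff]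
    rw [e]
    exact ab_refl_eq S.ndV S.goodV (by rwa [q_iw, hb]) hA (by rw [q_iw, hb]; exact ⟨P A, rfl⟩)
  obtain ⟨s, ⟨s₀, hs₀, rfl⟩, hs⟩ := exists_mem_ab_eq S.ndV S.goodV _ hS k⁻¹
  have hmem : k * emb R s₀ ∈ commutator (orthGroup P) := by
    rw [mem_commutator_iff, map_mul, hs, map_inv, mul_inv_cancel]
  refine ⟨⟨_, hmem⟩, σ₀ * s₀, S.moves_of hα ?_ (fun y => ?_), ?_⟩
  · show (torus P ee ff α).1 ((emb R σ₀).1 ((emb R s₀).1 ee)) = _
    have he : ∀ g : orthGroup R, (emb R g).1 ee = ee := fun g => by rw [emb_apply]; simp [ee]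
    rw [he, he]
    exact (torus_pair P (q_ee R) (q_ff R) (by simp [P, plusPlane_polar, ee, ff]) hα).1
  · show (torus P ee ff α).1 ((emb R σ₀).1 ((emb R s₀).1 (iw y))) = _
    have hi : ∀ (g : orthGroup R) (y : W), (emb R g).1 (iw y) = iw (g.1 y) := fun g y => by
      rw [emb_apply]; rfl
    rw [hi, hi, torus_fix P α (b_ee_iw R _) (b_ff_iw R _)]
    rfl
  · show σ₀.1 (s₀.1 u) = w
    rw [show s₀.1 u = u from hs₀, hσ₀]

/-- Transport inside a square class of non-singular vectors, as seen on annihilators. -/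
theorem Setup.exists_move_class {u v : W} (hu : R u ≠ 0) {β : F} (hβ : β ≠ 0) (h : R v = β * β * R u) :
    ∃ (n : Om R) (α : F) (σ : orthGroup R), α ≠ 0 ∧ S.Moves n α σ ∧ α⁻¹ • σ.1 u = v := by
  have hv : R v ≠ 0 := h ▸ mul_ne_zero (mul_ne_zero hβ hβ) hu
  obtain ⟨n, σ, hn, hσ⟩ := S.exists_move (u := u) (w := β⁻¹ • v) (fun e => hu (by rw [e, QuadraticMap.map_zero]))
    (smul_ne_zero (inv_ne_zero hβ) fun e => hv (by rw [e, QuadraticMap.map_zero]))
    (by rw [quad_smul', h]; field_simp) (inv_ne_zero hβ)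
  exact ⟨n, β⁻¹, σ, inv_ne_zero hβ, hn, by rw [hσ, inv_inv, smul_smul, mul_inv_cancel₀ hβ, one_smul]⟩

/-- Transport of singular vectors. -/
theorem Setup.exists_move_sing {u v : W} (hu : R u = 0) (hu0 : u ≠ 0) (hv : R v = 0) (hv0 : v ≠ 0) :
    ∃ (n : Om R) (σ : orthGroup R), S.Moves n 1 σ ∧ σ.1 u = v :=
  S.exists_move hu0 hv0 (hu.trans hv.symm) one_ne_zero

/-- A Siegel element of the Levi complement. -/
theorem Setup.exists_lev {a c : W} (ha : R a = 0) (hac : polar R a c = 0) :
    ∃ (g : Om R) (σ : orthGroup R), IsSiegel g.1 (iw a) (iw c) ∧ IsSiegel σ a c ∧ S.Moves g 1 σ := by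
  obtain ⟨σ, hσ⟩ := exists_isSiegel S.nd ha hac
  have hd : plusPlane R (iw a) = 0 := by rw [q_iw, ha]
  have hdu : polar (plusPlane R) (iw a) (iw c) = 0 := by rw [b_iw, hac]
  have hg := S.sgl_spec (iw a) (iw c) hd hdu
  refine ⟨_, σ, hg, hσ, S.moves_of one_ne_zero ?_ fun y => ?_⟩
  · rw [hg.2.2, polar_comm _ (iw a) ee, b_ee_iw, polar_comm _ (iw c) ee, b_ee_iw]
    simp
  · rw [hg.2.2, hσ.2.2, b_iw, b_iw, q_iw]
    simp [map_add, map_smul]

omit S in
theorem siegel_pow' {V : Type*} [AddCommGroup V] [Module F V] [FiniteDimensional F V] {Q : QuadraticForm F V}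
    {g : orthGroup Q} {d c : V} (h : IsSiegel g d c) : ∀ n : ℕ, IsSiegel (g ^ n) d (n • c)
  | 0 => by rw [pow_zero, zero_smul]; exact isSiegel_one h.1
  | n + 1 => by rw [pow_succ, succ_nsmul]; exact (siegel_pow' h n).mul h

theorem Setup.lev_pow_char {p : ℕ} [CharP F p] {g : Om R} {d u : W × (F × F)} (h : IsSiegel g.1 d u) :
    g ^ p = 1 := by
  refine Subtype.ext ?_
  rw [SubmonoidClass.coe_pow]
  refine (siegel_pow' h p).unique ?_
  rw [← Nat.cast_smul_eq_nsmul F, CharP.cast_eq_zero, zero_smul]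
  exact isSiegel_one h.1

/-- The torus element of a square, commuting with the Levi Siegel elements. -/
theorem Setup.exists_torus (c : F) (hc : c ≠ 0) :
    ∃ n : Om R, S.Moves n (c * c) 1 ∧
      ∀ (g : Om R) (a u : W), IsSiegel g.1 (iw a) (iw u) → n * g = g * n := by
  set P := plusPlane R
  have hα : c * c ≠ 0 := mul_ne_zero hc hc
  have hval : ∀ e : F, P (ee + e • ff) = e := fun e => by simp [P, plusPlane_apply, ee, ff]
  have hmem : torus P ee ff (c * c) ∈ commutator (orthGroup P) := by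
    have h1 : P (ee + ff) = 1 := by simpa using hval 1
    rw [mem_commutator_iff, torus, map_mul,
      ab_refl_eq S.ndV S.goodV (a := ee + ff) (b := ee + (c * c) • ff) (by rw [h1]; exact one_ne_zero)
        (by rw [hval]; exact hα) (by rw [h1, hval, one_mul]; exact ⟨c, rfl⟩),
      ab_refl_sq]
  have hfix : ∀ y, (torus P ee ff (c * c)).1 (iw y) = iw y := fun y =>
    torus_fix P _ (b_ee_iw R _) (b_ff_iw R _)
  refine ⟨⟨_, hmem⟩, S.moves_of hα (torus_pair P (q_ee R) (q_ff R) (by simp [P, plusPlane_polar, ee, ff]) hα).1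
    (fun y => by rw [hfix]; rfl), fun g a u hg => ?_⟩
  have h := hg.conj (⟨_, hmem⟩ : Om R).1
  rw [hfix, hfix] at h
  rw [← mul_inv_eq_iff_eq_mul]
  exact Subtype.ext (h.unique hg)

/-- A Siegel transformation of the Levi complement is conjugate to an element of the radical of equal norm. -/
theorem Setup.exists_conj_radical {g : Om R} {a c : W} (ha0 : a ≠ 0) (hg : IsSiegel g.1 (iw a) (iw c)) :
    ∃ (n : Om R) (u : W), n * g * n⁻¹ = S.x u ∧ R u = R c := by
  obtain ⟨hp⟩ := S.hypV
  obtain ⟨k, hk, hka⟩ := MinIndexOrth.exists_sing_move S.ndV S.goodV S.five' hp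
    (a := iw a) (b := ee) hg.1
    (fun h0 => ha0 (congrArg Prod.fst h0)) (q_ee R) (by simp [ee])
  have h := hg.conj k
  rw [hka] at h
  refine ⟨⟨k, hk⟩, (k.1 (iw c)).1, S.x_of_siegel h, ?_⟩
  have h2 : (k.1 (iw c)).2.2 = 0 := by simpa [plusPlane_polar, ee] using h.2.1
  have := apply_quad k (iw c)
  rw [q_iw, plusPlane_apply, h2, mul_zero, add_zero] at this
  exact this

end CfsgLib.KnownA.MinIndexU4
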