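import Cfsg.Agent.Lib.KnownA.MinIndexU4.Orbits

/-!
# Minimal index of `PΩ⁻₆(q)`: arguments over all singular points
-/

set_option autoImplicit false
set_option linter.unusedSectionVars false

open Module QuadraticMap CfsgLib.Orth CfsgLib.Classical Finset
open scoped LinearAlgebra.Projectivization
open CfsgLib.KnownA.MinIndexOrth (ee ff iw iw_apply split q_ee q_ff q_iw b_ee_iw b_ff_iw b_iw emb emb_apply Om sing cls mem_sing mem_cls)

namespace CfsgLib.KnownA.MinIndexU4

variable {F W : Type*} [Field F] [Fintype F] [AddCommGroup W] [Module F W] [FiniteDimensional F W]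
  [Fintype W] [DecidableEq W] {R : QuadraticForm F W} {Ω : Type*} [Fintype Ω] [DecidableEq Ω]

namespace Act

variable (A : Act R Ω)

/-- Fixed by all Siegel transformations at `d`. -/
def FS (ω : Ω) (d : W × (F × F)) : Prop :=
  ∀ (g : Om R) (u : W × (F × F)), IsSiegel g.1 d u → A.π g ω = ω

/-- Fixed by a non-trivial Siegel transformation at `d`. -/
def RS (ω : Ω) (d : W × (F × F)) : Prop :=
  ∃ (g : Om R) (u : W × (F × F)), IsSiegel g.1 d u ∧ g ≠ 1 ∧ A.π g ω = ω

theorem isSiegel_smul {g : orthGroup (plusPlane R)} {d u : W × (F × F)} {t : F} (ht : t ≠ 0)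
    (h : IsSiegel g d u) : IsSiegel g (t • d) (t⁻¹ • u) := by
  refine IsSiegel.of_smul (inv_ne_zero ht) ?_
  rwa [smul_smul, inv_mul_cancel₀ ht, one_smul]

theorem FS_smul {ω : Ω} {d : W × (F × F)} {t : F} (ht : t ≠ 0) : A.FS ω (t • d) ↔ A.FS ω d :=
  ⟨fun h g u hu => h g _ (isSiegel_smul ht hu), fun h g u hu => h g _ (hu.of_smul ht)⟩

theorem RS_smul {ω : Ω} {d : W × (F × F)} {t : F} (ht : t ≠ 0) : A.RS ω (t • d) ↔ A.RS ω d :=
  ⟨fun ⟨g, u, h, h1, h2⟩ => ⟨g, _, h.of_smul ht, h1, h2⟩,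
    fun ⟨g, u, h, h1, h2⟩ => ⟨g, _, isSiegel_smul ht h, h1, h2⟩⟩

theorem FS_map (k : Om R) {ω : Ω} {d : W × (F × F)} : A.FS (A.π k ω) (k.1.1 d) ↔ A.FS ω d := by
  constructor
  · intro h g u hu
    have := h (k * g * k⁻¹) (k.1.1 u) (hu.conj k.1)
    simpa [map_mul, map_inv] using this
  · intro h g u hu
    have h2 := hu.conj k⁻¹.1
    rw [show (k⁻¹.1).1 (k.1.1 d) = d from k.1.1.symm_apply_apply d] at h2
    have := h (k⁻¹ * g * k⁻¹⁻¹) _ h2
    simp only [inv_inv, map_mul, map_inv, Equiv.Perm.mul_apply, Equiv.Perm.inv_eq_iff_eq] at this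
    exact this

theorem RS_map (k : Om R) {ω : Ω} {d : W × (F × F)} : A.RS (A.π k ω) (k.1.1 d) ↔ A.RS ω d := by
  constructor
  · rintro ⟨g, u, hu, h1, h2⟩
    have h := hu.conj k⁻¹.1
    rw [show (k⁻¹.1).1 (k.1.1 d) = d from k.1.1.symm_apply_apply d] at h
    refine ⟨k⁻¹ * g * k⁻¹⁻¹, _, h, fun e => h1 ?_, ?_⟩
    · rwa [conj_eq_one_iff] at e
    · simp only [inv_inv, map_mul, map_inv, Equiv.Perm.mul_apply, Equiv.Perm.inv_eq_iff_eq]
      exact h2
  · rintro ⟨g, u, hu, h1, h2⟩
    refine ⟨k * g * k⁻¹, _, hu.conj k.1, fun e => h1 ?_, ?_⟩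
    · rwa [conj_eq_one_iff] at e
    · simp [map_mul, map_inv, h2]

include A in
theorem exists_to_ee {d : W × (F × F)} (hd : plusPlane R d = 0) (hd0 : d ≠ 0) :
    ∃ k : Om R, k.1.1 d = ee := by
  obtain ⟨hp⟩ := A.S.hypV
  obtain ⟨k, hk, h⟩ := MinIndexOrth.exists_sing_move A.S.ndV A.S.goodV A.S.five' hp hd hd0 (q_ee R) (by simp [ee])
  exact ⟨⟨k, hk⟩, h⟩

theorem FS_ee {ω : Ω} : A.FS ω ee ↔ (A.orb ω).card = 1 := by
  rw [A.orb_subsingleton_iff]
  constructor
  · exact fun h v => h _ _ (A.S.x_spec v)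
  · intro h g u hu
    rw [A.S.x_of_siegel hu]
    exact h _

theorem x_ne_one {v : W} (hv : v ≠ 0) : A.S.x v ≠ 1 := by
  intro e
  have h := (A.S.x_spec v).2.2 ff
  rw [e] at h
  have h' := congrArg Prod.fst h
  simp [ee, ff, iw, plusPlane_polar] at h'
  exact hv h'.symm

theorem RS_ee {ω : Ω} : A.RS ω ee ↔ ∃ v, v ≠ 0 ∧ v ∈ A.stab ω := by
  constructor
  · rintro ⟨g, u, hu, h1, h2⟩
    rw [A.S.x_of_siegel hu] at h1 h2
    exact ⟨u.1, fun e => h1 (by rw [e, A.S.x_zero]), h2⟩
  · rintro ⟨v, hv, h⟩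
    exact ⟨A.S.x v, _, A.S.x_spec v, A.x_ne_one hv, h⟩

/-- A point fixed by every radical is impossible. -/
theorem not_all_FS {ω : Ω} (h : ∀ d, plusPlane R d = 0 → d ≠ 0 → A.FS ω d) : False := by
  let H : Subgroup (Om R) :=
    { carrier := {g | A.π g ω = ω}
      one_mem' := by simp
      mul_mem' := fun {a b} ha hb => by
        show A.π (a * b) ω = ω
        rw [map_mul, Equiv.Perm.mul_apply, hb, ha]
      inv_mem' := fun {a} ha => by
        show A.π a⁻¹ ω = ω
        rw [map_inv, Equiv.Perm.inv_eq_iff_eq]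
        exact ha.symm }
  have hH : H = ⊤ := A.S.eq_top_of_siegel fun g d u hu => by
    by_cases hd0 : d = 0
    · subst hd0
      have : g = 1 := Subtype.ext (Subtype.ext (LinearEquiv.ext fun v => by
        rw [hu.2.2]; show _ = v; simp))
      rw [this]
      exact one_mem _
    · exact h d hu.1 hd0 g u hu
  obtain ⟨a, b, hab⟩ := A.two
  obtain ⟨g, rfl⟩ := A.trans ω a
  obtain ⟨g', rfl⟩ := A.trans ω b
  have h1 : g ∈ H := hH ▸ Subgroup.mem_top g
  have h2 : g' ∈ H := hH ▸ Subgroup.mem_top g'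
  exact hab (h1.trans h2.symm)

/-- Some orbit of the radical is not a point. -/
theorem exists_moved : ∃ ω : Ω, (A.orb ω).card ≠ 1 := by
  by_contra! hall
  obtain ⟨a, -⟩ := A.two
  refine A.not_all_FS (ω := a) fun d hd hd0 => ?_
  obtain ⟨k, hk⟩ := A.exists_to_ee hd hd0
  rw [← A.FS_map k, hk, A.FS_ee]
  exact hall _

/-- If the radical elements with singular parameters move all points outside the fixed set, that set is empty. -/
theorem no_fixed (h : ∀ u : W, u ≠ 0 → R u = 0 → ∀ ω, A.π (A.S.x u) ω = ω → (A.orb ω).card = 1) (ω : Ω) :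
    (A.orb ω).card ≠ 1 := by
  intro hω
  have hfix : ∀ {d d' : W × (F × F)} (g : Om R), IsSiegel g.1 d d' → d ≠ 0 → plusPlane R d' = 0 →
      d' ∉ Submodule.span F {d} → ∀ ν, A.π g ν = ν → A.FS ν d := by
    intro d d' g hg hd0 hd' hli ν hν
    obtain ⟨k, hk⟩ := A.exists_to_ee hg.1 hd0
    rw [← A.FS_map k, hk, A.FS_ee]
    have hc := hg.conj k.1
    rw [hk] at hc
    have he : k * g * k⁻¹ = A.S.x (k.1.1 d').1 := A.S.x_of_siegel hc
    have h22 : (k.1.1 d').2.2 = 0 := by simpa [plusPlane_polar, ee] using hc.2.1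
    refine h (k.1.1 d').1 (fun e => hli ?_) ?_ _ ?_
    · rw [Submodule.mem_span_singleton]
      refine ⟨(k.1.1 d').2.1, k.1.1.injective ?_⟩
      rw [map_smul, hk]
      conv_rhs => rw [split (k.1.1 d'), e, h22, map_zero, zero_add, zero_smul, add_zero]
    · have := apply_quad k.1 d'
      rw [hd', plusPlane_apply, h22, mul_zero, add_zero] at this
      exact this
    · rw [← he]
      simp [map_mul, map_inv, hν]
  have hedge : ∀ {d d' : W × (F × F)}, plusPlane R d = 0 → plusPlane R d' = 0 → polar (plusPlane R) d d' = 0 →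
      d ∉ Submodule.span F {d'} → d' ∉ Submodule.span F {d} → ∀ ν, A.FS ν d → A.FS ν d' := by
    intro d d' hd hd' hdd hli hli' ν hν
    have hd0 : d' ≠ 0 := fun e => hli' (e ▸ Submodule.zero_mem _)
    set g := A.S.sgl d d' hd hdd
    have hg := A.S.sgl_spec d d' hd hdd
    have hg' : IsSiegel g.1 d' (-d) := by
      refine ⟨hd', by rw [polar_neg_right, polar_comm, hdd, neg_zero], fun v => ?_⟩
      rw [hg.2.2, hd', QuadraticMap.map_neg, hd, polar_neg_left]
      module
    refine hfix g hg' hd0 (by rw [QuadraticMap.map_neg, hd]) (fun e => hli ?_) ν (hν g _ hg)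
    simpa using Submodule.neg_mem _ e
  refine A.not_all_FS (ω := ω) fun d hd hd0 => ?_
  have hee : A.FS ω ee := A.FS_ee.2 hω
  by_cases hpol : polar (plusPlane R) ee d = 0
  · by_cases hmem : d ∈ Submodule.span F {(ee : W × (F × F))}
    · obtain ⟨t, rfl⟩ := Submodule.mem_span_singleton.1 hmem
      exact (A.FS_smul (fun e => hd0 (by rw [e, zero_smul]))).2 hee
    · refine hedge (q_ee R) hd hpol (fun e => hmem ?_) hmem ω hee
      obtain ⟨t, ht⟩ := Submodule.mem_span_singleton.1 e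
      refine Submodule.mem_span_singleton.2 ⟨t⁻¹, ?_⟩
      rw [← ht, smul_smul, inv_mul_cancel₀ (fun z => ?_), one_smul]
      rw [z, zero_smul] at ht
      simp [ee, Prod.ext_iff] at ht
  · have hd22 : d.2.2 ≠ 0 := by simpa [plusPlane_polar, ee] using hpol
    obtain ⟨r, hr0, hr, hrv⟩ := A.S.exists_perp_singular d.1
    have hri : plusPlane R (iw r) = 0 := by rw [q_iw, hr]
    refine hedge hri hd (by simp [plusPlane_polar, iw, hrv]) ?_ ?_ ω
      (hedge (q_ee R) hri (b_ee_iw R r) ?_ ?_ ω hee)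
    · intro e
      obtain ⟨t, ht⟩ := Submodule.mem_span_singleton.1 e
      have h2 := congrArg (fun z => z.2.2) ht
      have h1 := congrArg Prod.fst ht
      simp [iw, hd22] at h2
      simp [h2, iw] at h1
      exact hr0 h1.symm
    · intro e
      obtain ⟨t, ht⟩ := Submodule.mem_span_singleton.1 e
      have h2 := congrArg (fun z => z.2.2) ht
      simp [iw] at h2
      exact hd22 h2.symm
    · intro e
      obtain ⟨t, ht⟩ := Submodule.mem_span_singleton.1 e
      have h2 := congrArg (fun z => z.2.1) ht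
      simp [iw, ee] at h2
    · intro e
      obtain ⟨t, ht⟩ := Submodule.mem_span_singleton.1 e
      have h1 := congrArg Prod.fst ht
      simp [iw, ee] at h1
      exact hr0 h1.symm

/-- Double counting an equivariant relation between points of `Ω` and singular points. -/
theorem card_dvd (Ψ : Ω → W × (F × F) → Prop) [DecidablePred fun ω => Ψ ω ee]
    (hmap : ∀ (k : Om R) ω d, Ψ (A.π k ω) (k.1.1 d) ↔ Ψ ω d)
    (hsmul : ∀ ω d (t : F), t ≠ 0 → (Ψ ω (t • d) ↔ Ψ ω d)) :
    Fintype.card Ω ∣ Nat.card (SingPts (plusPlane R)) * (univ.filter fun ω => Ψ ω ee).card := by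
  classical
  have : Finite (ℙ F (W × (F × F))) := Quotient.finite _
  have := Fintype.ofFinite (SingPts (plusPlane R))
  obtain ⟨ω₀, -⟩ := A.two
  have hrep : ∀ (k : Om R) (p : SingPts (plusPlane R)),
      ∃ t : F, t ≠ 0 ∧ (k.1 • p).1.rep = t • k.1.1 p.1.rep := by
    intro k p
    have h : k.1 • p.1 = Projectivization.mk F (k.1.1 p.1.rep) (by simpa using p.1.rep_nonzero) := by
      conv_lhs => rw [← Projectivization.mk_rep p.1]
      exact orth_smul_mk k.1 p.1.rep_nonzero
    obtain ⟨a, ha⟩ := Projectivization.exists_smul_eq_mk_rep F (k.1.1 p.1.rep)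
      (by simpa using p.1.rep_nonzero)
    refine ⟨a, a.ne_zero, ?_⟩
    show (k.1 • p.1).rep = _
    rw [h, ← ha]
    rfl
  have hconst : ∀ ω, (univ.filter fun p : SingPts (plusPlane R) => Ψ ω p.1.rep).card =
      (univ.filter fun p : SingPts (plusPlane R) => Ψ ω₀ p.1.rep).card := by
    intro ω
    obtain ⟨k, rfl⟩ := A.trans ω₀ ω
    refine (Finset.card_equiv (MulAction.toPerm k.1) fun p => ?_).symm
    obtain ⟨t, ht, he⟩ := hrep k p
    simp only [mem_filter, mem_univ, true_and, MulAction.toPerm_apply, he, hsmul _ _ _ ht, hmap]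
  have hpt : ∀ p : SingPts (plusPlane R), (univ.filter fun ω => Ψ ω p.1.rep).card =
      (univ.filter fun ω => Ψ ω ee).card := by
    intro p
    obtain ⟨k, hk⟩ := A.exists_to_ee p.2 p.1.rep_nonzero
    refine Finset.card_equiv (A.π k) fun ω => ?_
    simp only [mem_filter, mem_univ, true_and, ← hk, hmap]
  have key : ∑ ω : Ω, (univ.filter fun p : SingPts (plusPlane R) => Ψ ω p.1.rep).card =
      ∑ p : SingPts (plusPlane R), (univ.filter fun ω => Ψ ω p.1.rep).card := by
    simp only [Finset.card_filter]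
    exact Finset.sum_comm
  rw [Finset.sum_congr rfl fun ω _ => hconst ω, Finset.sum_congr rfl fun p _ => hpt p,
    Finset.sum_const, Finset.sum_const, smul_eq_mul, smul_eq_mul, Finset.card_univ, Finset.card_univ] at key
  rw [Nat.card_eq_fintype_card, ← key]
  exact dvd_mul_right _ _

end Act

end CfsgLib.KnownA.MinIndexU4
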