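import Cfsg.Agent.Lib.KnownA.MinIndexU4.Global

/-!
# Minimal index of `PΩ⁻₆(q)`: kinds of orbits
-/

set_option autoImplicit false
set_option linter.unusedSectionVars false

open Module QuadraticMap CfsgLib.Orth CfsgLib.Classical Finset
open scoped LinearAlgebra.Projectivization
open CfsgLib.KnownA.MinIndexOrth (ee ff iw iw_apply split q_ee q_ff q_iw b_ee_iw b_ff_iw b_iw emb emb_apply Om sing cls mem_sing mem_cls)

namespace CfsgLib.KnownA.MinIndexU4

variable {F W : Type*} [Field F] [Fintype F] [AddCommGroup W] [Module F W] [FiniteDimensional F W]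
  [Fintype W] [DecidableEq W] {R : QuadraticForm F W} {Ω : Type*} [Fintype Ω] [DecidableEq Ω]

namespace Act

variable (A : Act R Ω)

/-- The annihilator is everything. -/
def Reg (ω : Ω) : Prop := ∀ w, w ∈ A.ann ω

/-- The annihilator lies in a line. -/
def Line (ω : Ω) : Prop := ∃ u, u ≠ 0 ∧ u ∈ A.ann ω ∧ ∀ w ∈ A.ann ω, ∃ t : F, w = t • u

/-- Only two kinds of orbits move. -/
theorem classify (hdich : ∀ (ω : Ω) (u : W), R u ≠ 0 → u ∈ A.ann ω →
      (∀ w, w ∈ A.ann ω) ∨ ∀ w, w ∈ A.ann ω → ∃ t : F, w = t • u) {ω : Ω}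
    (h : (A.orb ω).card ≠ 1) : A.Reg ω ∨ A.Line ω := by
  obtain ⟨u, hu, hu0⟩ : ∃ u ∈ A.ann ω, u ≠ 0 := by
    by_contra! hall
    apply h
    rw [← A.card_ann, Finset.card_eq_one]
    exact ⟨0, Finset.eq_singleton_iff_unique_mem.2 ⟨A.zero_mem ω, hall⟩⟩
  by_cases hns : ∃ v ∈ A.ann ω, R v ≠ 0
  · obtain ⟨v, hv, hRv⟩ := hns
    rcases hdich ω v hRv hv with h1 | h1
    · exact Or.inl h1
    · exact Or.inr ⟨v, fun e => hRv (by simp [e]), hv, h1⟩
  push Not at hns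
  refine Or.inr ⟨u, hu0, hu, fun w hw => A.S.hts u w hu0 (hns u hu) (hns w hw) ?_⟩
  simp only [polar, hns _ (A.ann_add hu hw), hns u hu, hns w hw, sub_zero]

theorem reg_not_line {ω : Ω} (h : A.Reg ω) : ¬ A.Line ω := by
  rintro ⟨u, hu, -, hl⟩
  obtain ⟨a, b, ha, hb, hab⟩ := A.S.exists_pair
  obtain ⟨s, hs⟩ := hl a (h a)
  obtain ⟨t, ht⟩ := hl b (h b)
  have hs0 : s ≠ 0 := fun e => by rw [hs, e, zero_smul, polar_zero_left] at hab; exact zero_ne_one hab
  have hu1 : R u = 0 := by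
    rw [hs, quad_smul'] at ha
    exact (mul_eq_zero.1 ha).resolve_left (mul_ne_zero hs0 hs0)
  rw [hs, ht, polar_smul_l', polar_smul_r', polar_self', hu1] at hab
  simp at hab

theorem card_reg {ω : Ω} (h : A.Reg ω) : (A.orb ω).card = Fintype.card W := by
  rw [← A.card_ann, ← Finset.card_univ]
  congr 1
  exact Finset.eq_univ_of_forall h

theorem card_line {ω : Ω} (h : A.Line ω) : (A.orb ω).card ≤ Fintype.card F := by
  classical
  obtain ⟨u, -, -, hl⟩ := h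
  rw [← A.card_ann, ← Finset.card_univ]
  calc (A.ann ω).card ≤ (univ.image fun t : F => t • u).card := Finset.card_le_card fun w hw => by
        obtain ⟨t, rfl⟩ := hl w hw
        exact mem_image_of_mem _ (mem_univ t)
    _ ≤ _ := Finset.card_image_le

/-- Orbits of a given kind. -/
noncomputable def kind (K : Ω → Prop) : Finset (Finset Ω) := by
  classical exact A.orbs.filter fun O => ∃ ω ∈ O, K ω

theorem mem_kind {K : Ω → Prop} {O : Finset Ω} : O ∈ A.kind K ↔ O ∈ A.orbs ∧ ∃ ω ∈ O, K ω := by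
  classical simp [kind]

theorem sum_kind_le (K : Ω → Prop) : ∑ O ∈ A.kind K, O.card ≤ Fintype.card Ω := by
  classical
  rw [A.card_eq_sum]
  exact Finset.sum_le_sum_of_subset fun O hO => (A.mem_kind.1 hO).1

theorem sum_two_kinds (K K' : Ω → Prop) (hKK : ∀ ω ν, ν ∈ A.orb ω → K ω → ¬ K' ν) :
    ∑ O ∈ A.kind K, O.card + ∑ O ∈ A.kind K', O.card ≤ Fintype.card Ω := by
  classical
  rw [← Finset.sum_union, A.card_eq_sum]
  · refine Finset.sum_le_sum_of_subset fun O hO => ?_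
    rcases mem_union.1 hO with h | h <;> exact (A.mem_kind.1 h).1
  · rw [Finset.disjoint_left]
    intro O h h'
    obtain ⟨hO, ω, hω, hK⟩ := A.mem_kind.1 h
    obtain ⟨-, ν, hν, hK'⟩ := A.mem_kind.1 h'
    exact hKK ω ν ((A.of_mem_orbs hO hω) ▸ hν) hK hK'

theorem Reg.congr {A : Act R Ω} {ω ν : Ω} (hν : ν ∈ A.orb ω) (h : A.Reg ω) : A.Reg ν :=
  fun w => (A.ann_eq hν).symm ▸ h w

theorem Line.congr {A : Act R Ω} {ω ν : Ω} (hν : ν ∈ A.orb ω) (h : A.Line ω) : A.Line ν := by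
  unfold Line at h ⊢
  rwa [A.ann_eq hν]

theorem line_cover (T : Finset W) (h0 : (0 : W) ∉ T) (hT : ∀ y ∈ T, ∃ ω, A.Line ω ∧ y ∈ A.ann ω) :
    Fintype.card F * T.card ≤ (Fintype.card F - 1) * ∑ O ∈ A.kind A.Line, O.card := by
  classical
  have hsub : T ⊆ (A.kind A.Line).biUnion fun O => T.filter fun y => ∃ ω ∈ O, y ∈ A.ann ω := by
    intro y hy
    obtain ⟨ω, hω, hyω⟩ := hT y hy
    exact mem_biUnion.2 ⟨A.orb ω, A.mem_kind.2 ⟨A.orb_mem ω, ω, A.self_mem ω, hω⟩,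
      mem_filter.2 ⟨hy, ω, A.self_mem ω, hyω⟩⟩
  refine le_trans (Nat.mul_le_mul_left _ ((Finset.card_le_card hsub).trans Finset.card_biUnion_le)) ?_
  rw [Finset.mul_sum, Finset.mul_sum]
  refine Finset.sum_le_sum fun O hO => ?_
  obtain ⟨hO', ω, hω, hL⟩ := A.mem_kind.1 hO
  have hOe := A.of_mem_orbs hO' hω
  subst hOe
  rw [A.filter_ann rfl]
  have h1 : (T.filter fun y => y ∈ A.ann ω).card + 1 ≤ (A.orb ω).card := by
    rw [← A.card_ann, ← Finset.card_insert_of_notMem (a := (0 : W)) (fun e => h0 (mem_filter.1 e).1)]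
    exact Finset.card_le_card (Finset.insert_subset (A.zero_mem ω) fun y hy => (mem_filter.1 hy).2)
  have h2 := A.card_line hL
  obtain ⟨j, hj⟩ : ∃ j, Fintype.card F = j + 1 := ⟨Fintype.card F - 1, by have := Fintype.card_pos (α := F); omega⟩
  rw [hj] at h2 ⊢
  simp only [Nat.add_sub_cancel]
  calc (j + 1) * (T.filter fun y => y ∈ A.ann ω).card ≤ (j + 1) * ((A.orb ω).card - 1) :=
        Nat.mul_le_mul_left _ (by omega)
    _ ≤ j * (A.orb ω).card := by
      rw [Nat.mul_sub_one, add_one_mul]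
      omega

section Transport

variable {n : Om R} {α : F} {σ : orthGroup R} (hn : A.S.Moves n α σ) (hα : α ≠ 0)
include hn hα

theorem line_moves {ω : Ω} (h : A.Line ω) : A.Line (A.π n ω) := by
  obtain ⟨u, hu0, hu, hl⟩ := h
  refine ⟨α⁻¹ • σ.1 u, smul_ne_zero (inv_ne_zero hα) (by simpa using hu0), (A.ann_moves hn hα).1 hu, ?_⟩
  intro w hw
  obtain ⟨w₀, rfl⟩ : ∃ w₀, α⁻¹ • σ.1 w₀ = w :=
    ⟨σ.1.symm (α • w), by rw [LinearEquiv.apply_symm_apply, smul_smul, inv_mul_cancel₀ hα, one_smul]⟩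
  obtain ⟨t, rfl⟩ := hl w₀ ((A.ann_moves hn hα).2 hw)
  exact ⟨t, by rw [map_smul, smul_comm]⟩

end Transport

theorem cls_cover {u : W} (hu : R u ≠ 0) {ω : Ω} (hω : A.Line ω) (huω : u ∈ A.ann ω) :
    Fintype.card F * (cls R u).card ≤ (Fintype.card F - 1) * ∑ O ∈ A.kind A.Line, O.card := by
  refine A.line_cover _ (fun h => ?_) fun y hy => ?_
  · obtain ⟨β, hβ, he⟩ := mem_cls.1 h
    rw [QuadraticMap.map_zero, eq_comm] at he
    exact mul_ne_zero (mul_ne_zero hβ hβ) hu he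
  · obtain ⟨β, hβ, he⟩ := mem_cls.1 hy
    obtain ⟨n, α, σ, hα, hn, rfl⟩ := A.S.exists_move_class hu hβ he
    exact ⟨A.π n ω, A.line_moves hn hα hω, (A.ann_moves hn hα).1 huω⟩

theorem sing_cover {u : W} (hu : R u = 0) (hu0 : u ≠ 0) {ω : Ω} (hω : A.Line ω) (huω : u ∈ A.ann ω) :
    Fintype.card F * (sing R).card ≤ (Fintype.card F - 1) * ∑ O ∈ A.kind A.Line, O.card := by
  refine A.line_cover _ (fun h => (mem_sing.1 h).1 rfl) fun y hy => ?_
  obtain ⟨hy0, hy1⟩ := mem_sing.1 hy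
  obtain ⟨n, σ, hn, he⟩ := A.S.exists_move_sing hu hu0 hy1 hy0
  refine ⟨A.π n ω, A.line_moves hn one_ne_zero hω, ?_⟩
  have := (A.ann_moves hn one_ne_zero).1 huω
  rwa [inv_one, one_smul, he] at this

end Act

end CfsgLib.KnownA.MinIndexU4
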