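import Cfsg.Agent.Lib.KnownA.MinIndexU4.Multiplicity
import Cfsg.Agent.Lib.KnownA.MinIndexOrth.Points

/-!
# Minimal index of `PΩ⁻₆(q)`: the case analysis
-/

set_option autoImplicit false
set_option linter.unusedSectionVars false

open Module QuadraticMap CfsgLib.Orth CfsgLib.Classical Finset
open scoped LinearAlgebra.Projectivization
open CfsgLib.KnownA.MinIndexOrth (ee ff iw iw_apply split q_ee q_ff q_iw b_ee_iw b_ff_iw b_iw emb emb_apply Om sing cls mem_sing mem_cls)

namespace CfsgLib.KnownA.MinIndexU4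

variable {F W : Type*} [Field F] [Fintype F] [AddCommGroup W] [Module F W] [FiniteDimensional F W]
  [Fintype W] [DecidableEq W] {R : QuadraticForm F W} {Ω : Type*} [Fintype Ω] [DecidableEq Ω]

namespace Act

variable (A : Act R Ω)

/-- A scalar-closed orbit stable under the torus and under a commuting element has a common fixed point. -/
theorem exists_fixed {g : Om R} {n : Om R} {μ : F} (hn : A.S.Moves n μ 1) (hμ : μ ≠ 1)
    (hcomm : n * g = g * n) {ω : Ω} (hclosed : ∀ y ∈ A.ann ω, ∀ t : F, t • y ∈ A.ann ω)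
    (hns : A.π n ω ∈ A.orb ω) (hgs : ∀ ν ∈ A.orb ω, A.π (g) ν ∈ A.orb ω) :
    ∃ ν ∈ A.orb ω, A.π (g) ν = ν := by
  have hmove : ∀ v ν, A.π n (A.π (A.S.x v) ν) = A.π (A.S.x (μ • v)) (A.π n ν) := fun v ν => by
    rw [← A.pi_moves hn v ν]; rfl
  have hμ' : 1 - μ ≠ 0 := sub_ne_zero.2 (Ne.symm hμ)
  obtain ⟨v₀, hv₀⟩ := A.mem_orb.1 hns
  set v := (1 - μ)⁻¹ • v₀
  set ν := A.π (A.S.x v) ω
  have hν : ν ∈ A.orb ω := A.mem_orb.2 ⟨v, rfl⟩
  have hfix : A.π n ν = ν := by
    have e : μ • v + v₀ = v := by
      simp only [v, smul_smul]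
      match_scalars
      field_simp
      ring
    show A.π n (A.π (A.S.x v) ω) = _
    rw [hmove, ← hv₀, ← A.pi_add, e]
  obtain ⟨w, hw⟩ : ∃ w, A.π (A.S.x w) ν = A.π (g) ν := by
    have h := hgs ν hν
    rw [← A.orb_eq hν] at h
    exact A.mem_orb.1 h
  refine ⟨ν, hν, ?_⟩
  have hfix' : A.π n (A.π (g) ν) = A.π (g) ν := by
    rw [← Equiv.Perm.mul_apply, ← map_mul, hcomm, map_mul, Equiv.Perm.mul_apply, hfix]
  rw [← hw, hmove, hfix] at hfix'
  have hmem : μ • w - w ∈ A.stab ν := by
    rw [mem_stab]
    apply (A.π (A.S.x w)).injective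
    rw [← A.pi_add, add_sub_cancel, hfix']
  have : w ∈ A.stab ν := by
    refine A.mem_stab_of fun y hy => ?_
    rw [A.ann_eq hν] at hy
    have h0 := A.polar_eq_zero_of hmem (y := y) (by rw [A.ann_eq hν]; exact hclosed y hy)
    have e : polar R y (μ • w - w) = (μ - 1) * polar R y w := by
      rw [polar_sub_right, polar_smul_r']; ring
    rw [e] at h0
    exact (mul_eq_zero.1 h0).resolve_left (sub_ne_zero.2 hμ)
  rw [← hw]
  exact this

theorem fx_siegel {g : Om R} {a c : W} (ha : a ≠ 0) (hg : IsSiegel g.1 (iw a) (iw c))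
    (hc : R c ≠ 0) : A.fx g = A.fx (A.S.x c) := by
  obtain ⟨n, u, hn, hu⟩ := A.S.exists_conj_radical ha hg
  obtain ⟨k, σ, hk, hku⟩ := A.S.exists_move (u := c) (w := u) (fun e => hc (by rw [e, QuadraticMap.map_zero]))
    (fun e => hc (by rw [← hu, e, QuadraticMap.map_zero])) hu.symm one_ne_zero
  have h2 := hk c
  rw [one_smul, hku] at h2
  rw [← A.fx_conj n, hn, ← h2, A.fx_conj]

/-- Only lines: no moved point exists. -/
theorem lines_only (h : ∀ ω : Ω, (A.orb ω).card ≠ 1 → A.Line ω) : False := by
  obtain ⟨ω, hω⟩ := A.exists_moved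
  obtain ⟨u, hu0, huω, hl⟩ := h ω hω
  obtain ⟨a, c, ha0, ha, hac, hc, huc, hua⟩ := A.S.exists_witness hu0
  obtain ⟨g, σ, hgV, hg, hgm⟩ := A.S.exists_lev ha hac
  have key : ∀ ν, A.π (g) ν = ν → ∀ y ∈ A.ann ν, polar R y c = 0 ∧ polar R y a = 0 := by
    intro ν hν y hy
    by_cases h1 : (A.orb ν).card = 1
    · have hy0 : y = 0 := by
        rw [← A.card_ann] at h1
        obtain ⟨z, hz⟩ := Finset.card_eq_one.1 h1
        have h2 := A.zero_mem ν
        rw [hz, mem_singleton] at h2 hy
        rw [hy, h2]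
      simp [hy0]
    obtain ⟨u', hu'0, hu', hl'⟩ := h ν h1
    have hz := (A.ann_moves hgm one_ne_zero).1 hu'
    rw [inv_one, one_smul, hν, hg.2.2] at hz
    obtain ⟨s, hs⟩ := hl' _ hz
    obtain ⟨t, rfl⟩ := hl' y hy
    -- pair the image with `a`
    have h2 := congrArg (polar R a) hs
    simp only [polar_add_right, polar_smul_r', hac, polar_self', ha, mul_zero, add_zero] at h2
    have hau : polar R a u' = 0 := by
      by_contra hne
      have hs1 : s = 1 := (mul_right_cancel₀ hne (by rw [one_mul]; exact h2)).symm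
      rw [hs1, one_smul, add_assoc, add_eq_left] at hs
      have h3 := congrArg R hs
      rw [QuadraticMap.map_zero, quad_add', quad_smul', quad_smul', polar_smul_l', polar_smul_r',
        polar_comm _ c a, hac, ha] at h3
      simp [hne, hc] at h3
    rw [hau] at hs
    simp only [zero_smul, add_zero, mul_zero, sub_zero] at hs
    have hcu : polar R c u' = 0 := by
      by_contra hne
      have e1 : (-polar R c u') • a = (s - 1) • u' := by
        rw [sub_smul, one_smul, ← hs]; abel
      have h4 := congrArg (polar R c) e1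
      rw [polar_smul_r', polar_smul_r', polar_comm _ c a, hac, mul_zero] at h4
      have hs1 : s - 1 = 0 := by
        rcases mul_eq_zero.1 h4.symm with h5 | h5
        · exact h5
        · exact absurd h5 hne
      rw [hs1, zero_smul, smul_eq_zero] at e1
      exact e1.elim (fun e => hne (neg_eq_zero.1 e)) ha0
    exact ⟨by rw [polar_smul_l', polar_comm, hcu, mul_zero], by rw [polar_smul_l', polar_comm, hau, mul_zero]⟩
  have hsub : (univ.filter fun ν => A.π (g) ν = ν) ⊆ univ.filter fun ν => A.π (A.S.x c) ν = ν := by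
    intro ν hν
    rw [mem_filter] at hν ⊢
    exact ⟨hν.1, A.mem_stab_of fun y hy => (key ν hν.2 y hy).1⟩
  have heq := Finset.eq_of_subset_of_card_le hsub (A.fx_siegel ha0 hgV hc).ge
  have hω' : ω ∈ univ.filter fun ν => A.π (A.S.x c) ν = ν := by
    rw [mem_filter]
    refine ⟨mem_univ _, A.mem_stab_of fun y hy => ?_⟩
    obtain ⟨t, rfl⟩ := hl y hy
    rw [polar_smul_l', huc, mul_zero]
  rw [← heq, mem_filter] at hω'
  exact hua (key ω hω'.2 u huω).2

theorem exists_scalar (hq : 4 ≤ Fintype.card F) : ∃ l : F, l ≠ 0 ∧ l * l ≠ 1 := by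
  classical
  by_contra! hall
  have hsub : (univ : Finset F) ⊆ {0, 1, -1} := fun l _ => by
    by_cases hl : l = 0
    · simp [hl]
    · rcases mul_self_eq_one_iff.1 (hall l hl) with rfl | rfl <;> simp
  have := (Finset.card_le_card hsub).trans Finset.card_le_three
  rw [Finset.card_univ] at this
  omega

variable {p : ℕ}

/-- An involution of the Levi complement fixes a point of a regular orbit in characteristic two. -/
theorem exists_fixed_two (h2 : (2 : F) = 0) {a c : W} (ha0 : a ≠ 0) (ha : R a = 0) (hac : polar R a c = 0)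
    (hc : R c ≠ 0) {g : Om R} {σ : orthGroup R} (hg : IsSiegel g.1 (iw a) (iw c)) (hσ : IsSiegel σ a c)
    (hm : A.S.Moves g 1 σ) {ω : Ω} (hstab : ∀ v, v ∈ A.stab ω → v = 0) (hgω : A.π g ω ∈ A.orb ω) :
    ∃ ν, A.π g ν = ν := by
  classical
  have hmove : ∀ v ν, A.π g (A.π (A.S.x v) ν) = A.π (A.S.x (σ.1 v)) (A.π g ν) := fun v ν => by
    rw [← A.pi_moves hm v ν, one_smul]
  have hnegW : ∀ x : W, -x = x := fun x => by
    have : (2 : F) • x = 0 := by rw [h2, zero_smul]
    rw [two_smul] at this
    exact (eq_neg_of_add_eq_zero_left this).symm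
  have hgg : g * g = 1 := by
    have : CharP F 2 := CharTwo.of_one_ne_zero_of_two_eq_zero one_ne_zero h2
    rw [← pow_two]; exact A.S.lev_pow_char (p := 2) hg
  obtain ⟨φ, hφ⟩ := A.mem_orb.1 hgω
  have hfix : σ.1 φ + φ = 0 := by
    refine hstab _ ?_
    rw [mem_stab, A.pi_add, hφ, ← hmove, hφ, ← Equiv.Perm.mul_apply, ← map_mul, hgg, map_one,
      Equiv.Perm.one_apply]
  rw [hσ.2.2] at hfix
  have hsum : polar R a φ • c + (-(polar R c φ) - R c * polar R a φ) • a = 0 := by
    rw [← hfix, show φ + polar R a φ • c + (-(polar R c φ) - R c * polar R a φ) • a + φ =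
      (polar R a φ • c + (-(polar R c φ) - R c * polar R a φ) • a) + (φ + φ) by abel]
    conv_rhs => arg 2; arg 2; rw [← hnegW φ]
    rw [add_neg_cancel, add_zero]
  have hA : polar R a φ = 0 := by
    by_contra hne
    have e : c = (-(polar R a φ)⁻¹ * (-(polar R c φ) - R c * polar R a φ)) • a := by
      rw [← smul_right_inj hne, smul_smul]
      rw [eq_neg_of_add_eq_zero_left hsum, ← neg_smul]
      congr 1
      field_simp
      try ring
    exact hc (by rw [e, quad_smul', ha, mul_zero])
  have hC : polar R c φ = 0 := by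
    rw [hA, zero_smul, zero_add, mul_zero, sub_zero, smul_eq_zero] at hsum
    exact neg_eq_zero.1 (hsum.resolve_right ha0)
  have hca : c ∉ Submodule.span F ({a} : Set W) := fun h => by
    obtain ⟨t, rfl⟩ := Submodule.mem_span_singleton.1 h
    exact hc (by rw [quad_smul', ha, mul_zero])
  have hcc : polar R c c = 0 := by rw [polar_self', h2, zero_mul]
  have hli : LinearIndependent F ![a, c] := by
    rw [LinearIndependent.pair_iff' ha0]
    exact fun t e => hca (Submodule.mem_span_singleton.2 ⟨t, e⟩)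
  obtain ⟨s, t, hst⟩ : ∃ s t : F, φ = s • a + t • c := by
    set T := Submodule.span F (Set.range ![a, c]) with hTdef
    have hmem : ∀ x, polar R a x = 0 → polar R c x = 0 →
        x ∈ LinearMap.BilinForm.orthogonal (QuadraticMap.polarBilin R) T := by
      intro x h1 h2' z hz
      show polar R z x = 0
      induction hz using Submodule.span_induction with
      | mem z hz =>
        obtain ⟨i, rfl⟩ := hz
        fin_cases i
        · exact h1
        · exact h2'
      | zero => exact polar_zero_left (Q := R) x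
      | add z w _ _ e1 e2 => rw [polar_add_left, e1, e2, add_zero]
      | smul r z _ e1 => rw [polar_smul_l', e1, mul_zero]
    have hle : T ≤ LinearMap.BilinForm.orthogonal (QuadraticMap.polarBilin R) T := by
      rw [hTdef, Submodule.span_le]
      rintro _ ⟨i, rfl⟩
      fin_cases i
      · exact hmem a (by rw [polar_self', ha, mul_zero]) (by rw [polar_comm]; exact hac)
      · exact hmem c hac hcc
    have heq := Submodule.eq_of_le_of_finrank_eq hle (by
      rw [LinearMap.BilinForm.finrank_orthogonal A.S.nd, A.S.four, hTdef, finrank_span_eq_card hli,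
        Fintype.card_fin])
    have hφT := hmem φ hA hC
    rw [← heq, hTdef, Matrix.range_cons_cons_empty, Submodule.mem_span_pair] at hφT
    obtain ⟨s, t, h⟩ := hφT
    exact ⟨s, t, h.symm⟩
  obtain ⟨b, -, hab, hcb⟩ := A.S.exists_partner (a := a) (u := c) ha (by rw [polar_comm]; exact hac) (fun h => by
    obtain ⟨r, rfl⟩ := Submodule.mem_span_singleton.1 h
    rw [quad_smul'] at ha
    exact ha0 (by rw [mul_self_eq_zero.1 ((mul_eq_zero.1 ha).resolve_right hc), zero_smul]))
  obtain ⟨d, hd, hdc⟩ := exists_polar_one A.S.nd hca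
  have had : polar R a d = 0 := by rw [polar_comm]; exact hd a (Submodule.mem_span_singleton_self a)
  set v := t • b + (-s - R c * t) • d with hv
  have e1 : polar R a v = t := by simp only [hv, polar_add_right, polar_smul_r', hab, had]; ring
  have e2 : polar R c v = -s - R c * t := by
    simp only [hv, polar_add_right, polar_smul_r', hcb, polar_comm _ c d, hdc]; ring
  refine ⟨A.π (A.S.x v) ω, ?_⟩
  rw [hmove, ← hφ, ← A.pi_add]
  congr 3
  rw [hσ.2.2, e1, e2, hst,
    show v + t • c + (-(-s - R c * t) - R c * t) • a + (s • a + t • c) =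
      v + ((s • a + t • c) + (s • a + t • c)) by module]
  conv_lhs => arg 2; arg 2; rw [← hnegW (s • a + t • c)]
  rw [add_neg_cancel, add_zero]

/-- Only one regular orbit and fixed points: possible only over three elements. -/
theorem regular_only [Fact p.Prime] [CharP F p] {ω : Ω} (hreg : A.Reg ω)
    (hrest : ∀ ν : Ω, (A.orb ν).card ≠ 1 → ν ∈ A.orb ω) : Fintype.card F = 3 ∧ Fintype.card Ω = 81 := by
  have hstab : ∀ ν ∈ A.orb ω, ∀ v, v ∈ A.stab ν → v = 0 := fun ν hν v hv => by
    refine eq_zero_of_polar A.S.nd fun y => ?_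
    rw [polar_comm]
    exact A.polar_eq_zero_of hv fun c => (Reg.congr hν hreg) _
  have hnofix := A.no_fixed fun u hu0 _ ν hν => by
    by_contra h1
    exact hu0 (hstab ν (hrest ν h1) u hν)
  obtain ⟨a, ha0, ha⟩ := A.S.iso
  obtain ⟨c, hac, -, hc⟩ := A.S.exists_perp_nonsing ha0 ha a
  have hc0 : c ≠ 0 := fun e => hc (by rw [e, QuadraticMap.map_zero])
  obtain ⟨g, σ, hg, hσ, hm⟩ := A.S.exists_lev ha hac
  have h0 : A.fx g = 0 := by
    rw [A.fx_siegel ha0 hg hc, fx, Finset.card_eq_zero, Finset.filter_eq_empty_iff]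
    exact fun ν _ hν => hc0 (hstab ν (hrest ν (hnofix ν)) c hν)
  rw [fx, Finset.card_eq_zero, Finset.filter_eq_empty_iff] at h0
  have hcard : Fintype.card Ω = Fintype.card F ^ 4 := by
    rw [← Finset.card_univ, ← Finset.eq_univ_of_forall fun ν => hrest ν (hnofix ν), A.card_reg hreg,
      ← Nat.card_eq_fintype_card (α := W), Module.natCard_eq_pow_finrank (K := F), A.S.four,
      Nat.card_eq_fintype_card]
  by_cases h2 : (2 : F) = 0
  · obtain ⟨ν, hν⟩ := A.exists_fixed_two h2 ha0 ha hac hc hg hσ hm
      (fun v hv => hstab ω (A.self_mem ω) v hv) (hrest _ (hnofix _))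
    exact absurd hν (h0 (mem_univ ν))
  rcases Nat.lt_or_ge (Fintype.card F) 4 with hq | hq
  · refine ⟨?_, ?_⟩ <;>
    · have h1 := Fintype.one_lt_card (α := F)
      rcases (show Fintype.card F = 2 ∨ Fintype.card F = 3 by omega) with h | h
      · exfalso
        have hr : ((Fintype.card F : ℕ) : F) = 0 := FiniteField.cast_card_eq_zero F
        rw [h] at hr
        exact h2 (by exact_mod_cast hr)
      · rw [h] at hcard
        omega
  obtain ⟨l, hl0, hl⟩ := exists_scalar hq
  obtain ⟨n, hn, hcomm⟩ := A.S.exists_torus l hl0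
  obtain ⟨ν, -, hν⟩ := A.exists_fixed hn hl (hcomm g a c hg) (fun y _ t => hreg _)
    (hrest _ (hnofix _)) (fun ν _ => hrest _ (hnofix _))
  exact absurd hν (h0 (mem_univ ν))

/-- The bound for transitive actions. -/
theorem false_of_small (A : Act R Ω) [Fact p.Prime] [CharP F p] (H : Num R p)
    (hcard : Fintype.card Ω ≤ Fintype.card F ^ 4 + Fintype.card F ^ 3 + Fintype.card F) :
    Fintype.card F = 3 ∧ Fintype.card Ω = 81 := by
  classical
  have hk := A.all_or_line H hcard
  by_cases hregex : ∃ ω, A.Reg ω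
  swap
  · push Not at hregex
    exact (A.lines_only fun ω hω => (A.classify hk hω).resolve_left (hregex ω)).elim
  obtain ⟨ω, hreg⟩ := hregex
  have hW : Fintype.card W = Fintype.card F ^ 4 := by
    rw [← Nat.card_eq_fintype_card (α := W), Module.natCard_eq_pow_finrank (K := F), A.S.four,
      Nat.card_eq_fintype_card]
  have hXω := A.card_reg hreg
  have hq : 2 ≤ Fintype.card F := Fintype.one_lt_card
  have hq3 : Fintype.card F ^ 3 + Fintype.card F + 1 ≤ Fintype.card F ^ 4 := by
    have e1 : Fintype.card F ^ 3 * 2 ≤ Fintype.card F ^ 4 := by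
      rw [pow_succ _ 3]; exact Nat.mul_le_mul_left _ hq
    have e2 : Fintype.card F * 2 * 2 ≤ Fintype.card F ^ 3 := by
      rw [pow_succ, pow_two]; exact Nat.mul_le_mul (Nat.mul_le_mul_left _ hq) hq
    omega
  have hregsum : Fintype.card W ≤ ∑ O ∈ A.kind A.Reg, O.card := by
    rw [← hXω]
    exact Finset.single_le_sum (f := Finset.card) (fun _ _ => Nat.zero_le _)
      (A.mem_kind.2 ⟨A.orb_mem ω, ω, A.self_mem ω, hreg⟩)
  have huniq : ∀ ν, A.Reg ν → ν ∈ A.orb ω := by
    intro ν hν
    by_contra hmem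
    have hne : A.orb ν ≠ A.orb ω := fun e => hmem (e ▸ A.self_mem ν)
    have h2 : Fintype.card W + Fintype.card W ≤ ∑ O ∈ A.kind A.Reg, O.card := by
      have h3 := Finset.sum_le_sum_of_subset (f := Finset.card) (s := ({A.orb ν, A.orb ω} : Finset (Finset Ω)))
        (t := A.kind A.Reg) (by
          intro O hO
          rw [mem_insert, mem_singleton] at hO
          rcases hO with rfl | rfl
          · exact A.mem_kind.2 ⟨A.orb_mem ν, ν, A.self_mem ν, hν⟩
          · exact A.mem_kind.2 ⟨A.orb_mem ω, ω, A.self_mem ω, hreg⟩)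
      rw [Finset.sum_pair hne, A.card_reg hν, hXω] at h3
      exact h3
    have := A.sum_kind_le A.Reg
    omega
  by_cases hline : ∃ ν, A.Line ν
  swap
  · push Not at hline
    refine A.regular_only (p := p) hreg fun ν hν => ?_
    exact huniq ν ((A.classify hk hν).resolve_right (hline ν))
  exfalso
  obtain ⟨ν, hν⟩ := hline
  have h2 := A.sum_two_kinds A.Reg A.Line fun a b hb ha hb' => A.reg_not_line (Reg.congr hb ha) hb'
  obtain ⟨u, hu0, huν, hl⟩ := id hν
  have hkey : (Fintype.card F - 1) * (Fintype.card F ^ 3 + Fintype.card F) <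
      Fintype.card F ^ 4 + Fintype.card F ^ 3 + Fintype.card F + 1 := by
    calc (Fintype.card F - 1) * (Fintype.card F ^ 3 + Fintype.card F)
        ≤ Fintype.card F * (Fintype.card F ^ 3 + Fintype.card F) := Nat.mul_le_mul_right _ (Nat.sub_le _ _)
      _ < _ := by
        have : Fintype.card F * Fintype.card F ≤ Fintype.card F ^ 3 := by
          rw [← pow_two]; exact Nat.pow_le_pow_right (by omega) (by omega)
        rw [mul_add, show Fintype.card F * Fintype.card F ^ 3 = Fintype.card F ^ 4 by ring]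
        omega
  by_cases hu : R u = 0
  swap
  · have h1 := A.cls_cover hu hν huν
    have hbound : (Fintype.card F - 1) * (Fintype.card F ^ 3 + Fintype.card F) <
        Fintype.card F * (cls R u).card := by
      rcases Nat.lt_or_ge (Fintype.card F) 4 with hq4 | hq4
      · obtain ⟨h10, h25⟩ := (H.hsmall (by omega)).2 u hu
        rcases (show Fintype.card F = 2 ∨ Fintype.card F = 3 by omega) with h | h
        · have := h10 h; rw [h]; omega
        · have := h25 h; rw [h]; omega
      · refine lt_of_lt_of_le (hkey.trans_le (H.hdich hq4 u hu)) (Nat.mul_le_mul_right _ ?_)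
        refine Nat.le_of_dvd (by omega) ((CharP.cast_eq_zero_iff F p _).1 ?_)
        exact FiniteField.cast_card_eq_zero F
    have h3 : (Fintype.card F - 1) * ∑ O ∈ A.kind A.Line, O.card ≤
        (Fintype.card F - 1) * (Fintype.card F ^ 3 + Fintype.card F) := Nat.mul_le_mul_left _ (by omega)
    omega
  have h1 := A.sing_cover hu hu0 hν huν
  rw [H.hsing, ← mul_assoc, mul_comm (Fintype.card F - 1)] at h1
  have hLs := Nat.le_of_mul_le_mul_right h1 (show 0 < Fintype.card F - 1 by omega)
  have hexp : Fintype.card F * (Fintype.card F ^ 2 + 1) = Fintype.card F ^ 3 + Fintype.card F := by ring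
  rw [hexp] at hLs
  have hcardeq : Fintype.card Ω = Fintype.card W + (Fintype.card F ^ 3 + Fintype.card F) := by omega
  -- no fixed points
  have hRS : (univ.filter fun μ => A.RS μ ee).card = Fintype.card F ^ 3 + Fintype.card F := by
    have hcompl : (univ.filter fun μ => A.RS μ ee) = univ \ A.orb ω := by
      ext μ
      simp only [mem_filter, mem_univ, true_and, mem_sdiff, A.RS_ee]
      constructor
      · rintro ⟨v, hv0, hv⟩ hμ
        refine hv0 (eq_zero_of_polar A.S.nd fun y => ?_)
        rw [polar_comm]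
        exact A.polar_eq_zero_of hv fun c => (Reg.congr hμ hreg) _
      · intro hμ
        by_contra! hnone
        apply hμ
        apply huniq
        have hbot : A.stab μ = ⊥ := (AddSubgroup.eq_bot_iff_forall _).2 fun v hv => by
          by_contra hv0
          exact hnone v hv0 hv
        have hcard' : (A.ann μ).card = Fintype.card W := by
          rw [A.card_ann, ← A.card_orb, hbot, ← Nat.card_eq_fintype_card]
          exact Nat.card_congr (QuotientAddGroup.quotientBot (G := W)).toEquiv
        intro w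
        rw [Finset.eq_univ_of_card _ hcard']
        exact mem_univ w
    rw [hcompl, Finset.card_sdiff_of_subset (subset_univ _), Finset.card_univ, hXω, hcardeq]
    omega
  have hdvd := A.card_dvd (fun μ d => A.RS μ d) (fun k _ _ => A.RS_map k) (fun _ _ _ ht => A.RS_smul ht)
  have hN : Nat.card (SingPts (plusPlane R)) = Fintype.card Ω + 1 := by
    obtain ⟨P, hP, hN⟩ := MinIndexOrth.card_points R
    rw [H.hsing, mul_comm] at hP
    rw [hN, Nat.eq_of_mul_eq_mul_right (show 0 < Fintype.card F - 1 by omega) hP, hexp]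
    omega
  rw [hN, hRS, add_one_mul] at hdvd
  have hd2 : Fintype.card Ω ∣ Fintype.card F ^ 3 + Fintype.card F :=
    (Nat.dvd_add_right (dvd_mul_right _ _)).1 hdvd
  have := Nat.le_of_dvd (by omega) hd2
  omega

end Act

end CfsgLib.KnownA.MinIndexU4
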