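import Cfsg.Agent.Lib.KnownA.MinIndexU4.Main
import Cfsg.Agent.Lib.KnownA.MinIndexOrth.Numerics

/-!
# Minimal index of `PΩ⁻₆(q)`: the standard four-dimensional minus form
-/

set_option autoImplicit false
set_option linter.unusedSectionVars false

open Module QuadraticMap CfsgLib.Orth CfsgLib.Classical Finset
open CfsgLib.KnownA.MinIndexOrth (sing cls mem_sing mem_cls)

namespace CfsgLib.KnownA.MinIndexU4

variable {F : Type*} [Field F] [Fintype F] {a b : F}
  (hab : ∀ z₁ z₂ : F, z₁ ^ 2 + a * z₁ * z₂ + b * z₂ ^ 2 = 0 → z₁ = 0 ∧ z₂ = 0)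

include hab

/-- An anisotropic binary form takes every value. -/
theorem binary_value (r : F) : ∃ z₁ z₂ : F, z₁ ^ 2 + a * z₁ * z₂ + b * z₂ ^ 2 = r := by
  obtain ⟨p, hc⟩ := CharP.exists F
  obtain ⟨n, hp, hn⟩ := FiniteField.card F p
  by_cases h2 : p = 2
  · subst h2
    obtain ⟨s, hs⟩ := FiniteField.isSquare_of_char_two (ringChar.eq F 2) r
    exact ⟨s, 0, by rw [hs]; ring⟩
  have h2F : (2 : F) ≠ 0 := Ring.two_ne_zero (by rw [ringChar.eq F p]; exact h2)
  have hd : b - a ^ 2 / 4 ≠ 0 := fun hd => by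
    have h4 : (4 : F) ≠ 0 := by
      rw [show (4 : F) = 2 * 2 by norm_num]; exact mul_ne_zero h2F h2F
    have := hab (-a / 2) 1 (by
      rw [sub_eq_zero] at hd
      rw [hd]; field_simp; ring)
    exact one_ne_zero this.2
  have hodd : Fintype.card F % 2 = 1 := by
    rw [hn]; exact Nat.odd_iff.1 (hp.odd_of_ne_two h2).pow
  obtain ⟨x, y, hxy⟩ := FiniteField.exists_root_sum_quadratic (R := F)
    (f := Polynomial.X ^ 2 - Polynomial.C r) (g := Polynomial.C (b - a ^ 2 / 4) * Polynomial.X ^ 2)
    (Polynomial.degree_X_pow_sub_C (by norm_num) r) (Polynomial.degree_C_mul_X_pow 2 hd) hodd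
  simp only [Polynomial.eval_sub, Polynomial.eval_mul, Polynomial.eval_pow, Polynomial.eval_X,
    Polynomial.eval_C] at hxy
  have h4 : (4 : F) ≠ 0 := by
    rw [show (4 : F) = 2 * 2 by norm_num]; exact mul_ne_zero h2F h2F
  refine ⟨x - a / 2 * y, y, ?_⟩
  field_simp at hxy ⊢
  linear_combination hxy

/-- The four-dimensional minus form satisfies the standing hypotheses. -/
theorem setup_minus : Setup (minusForm F 1 a b) := by
  classical
  have hnd := minusForm_nondeg (F := F) 1 a b hab
  have hdim : finrank F ((Fin 1 ⊕ Fin 1) ⊕ Fin 2 → F) = 4 := by simp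
  set e : (Fin 1 ⊕ Fin 1) ⊕ Fin 2 → F := Pi.single (Sum.inl (Sum.inl 0)) 1 with he
  have he0 : e ≠ 0 := fun h => one_ne_zero (α := F) (by simpa [he] using congrFun h (Sum.inl (Sum.inl 0)))
  have heq : minusForm F 1 a b e = 0 := by
    rw [← minusForm_apply]; simp [Cfsg.quadFormMinus, he]
  refine ⟨hnd, hdim, fun u c hu0 hu hc huc => ?_, ⟨e, he0, heq⟩, fun u hu0 hu r hr => ?_⟩
  · set T := Submodule.span F ({u, c} : Set _)
    have h1 : finrank F T ≤ 1 := minus_singular_finrank_le hab T (by
      intro v hv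
      obtain ⟨s, t, rfl⟩ := Submodule.mem_span_pair.1 hv
      rw [quad_add', quad_smul', quad_smul', polar_smul_l', polar_smul_r', hu, hc, huc]; ring)
    have hle : Submodule.span F ({u} : Set _) ≤ T := Submodule.span_mono (by simp)
    have heq' := Submodule.eq_of_le_of_finrank_le hle (by rw [finrank_span_singleton hu0]; exact h1)
    have hcT : c ∈ T := Submodule.subset_span (by simp)
    rw [← heq', Submodule.mem_span_singleton] at hcT
    obtain ⟨t, ht⟩ := hcT
    exact ⟨t, ht.symm⟩
  · obtain ⟨g, hg⟩ := witt_family' hnd ![e] ![u] (LinearIndependent.of_subsingleton 0 he0)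
      (LinearIndependent.of_subsingleton 0 hu0) (fun i => by fin_cases i; exact heq.trans hu.symm)
      (fun i j => by fin_cases i; fin_cases j; simp [polar_self', heq, hu])
    obtain ⟨z₁, z₂, hz⟩ := binary_value hab r
    refine ⟨g.1 (Sum.elim 0 ![z₁, z₂]), ?_, ?_⟩
    · rw [← show g.1 e = u from hg 0, polar_isom, minusForm_polar]
      simp [he]
    · rw [apply_quad, ← minusForm_apply]
      simp [Cfsg.quadFormMinus]
      linear_combination hz

omit hab in
/-- A class over three elements has more than twenty-four vectors. -/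
theorem cls_three_ge {W : Type*} [AddCommGroup W] [Module F W] [FiniteDimensional F W] [Fintype W]
    [DecidableEq W] {R : QuadraticForm F W} (S : Setup R) (hF : Fintype.card F = 3) {u : W} (hu : R u ≠ 0) :
    25 ≤ (cls R u).card := by
  classical
  have h3 : (3 : F) = 0 := by
    have hr : ((Fintype.card F : ℕ) : F) = 0 := FiniteField.cast_card_eq_zero F
    rw [hF] at hr
    exact_mod_cast hr
  have h2 : (2 : F) ≠ 0 := fun h => one_ne_zero (show (1 : F) = 0 by linear_combination h3 - h)
  obtain ⟨a, ha0, ha⟩ := S.iso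
  obtain ⟨d, had, hd⟩ := S.hval a ha0 ha (R u) hu
  obtain ⟨c, hac, hdc, hc⟩ := S.exists_perp_nonsing ha0 ha d
  have hcv : R c = R u := by
    by_contra hne
    have hc' : R c = -R u := by
      have hval : ∀ x : F, x ≠ 0 → x * x = 1 := fun x hx => by
        have h1 := FiniteField.pow_card_sub_one_eq_one x hx
        rw [hF] at h1
        rw [← h1]; ring
      rcases mul_self_eq_mul_self_iff.1 ((hval _ hc).trans (hval _ hu).symm) with h | h
      · exact absurd h hne
      · exact h
    obtain ⟨t, ht⟩ := S.hts a (c + d) ha0 ha (by rw [quad_add', hc', hd, polar_comm _ c d, hdc]; ring)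
      (by rw [polar_add_right, hac, had, add_zero])
    have h := congrArg (polar R d) ht
    rw [polar_add_right, polar_smul_r', hdc, polar_self', hd, polar_comm _ d a, had] at h
    exact mul_ne_zero h2 hu (by linear_combination h)
  set A := univ.filter fun v => polar R a v ≠ 0 ∧ R v = R u with hA
  have hA18 : A.card = 18 := by
    rw [hA, MinIndexOrth.card_value_ne S.nd (by rw [S.four]; norm_num) ha0 ha, hF, S.four]
    norm_num
  set B := insert c ((univ : Finset (F × Bool)).image fun z => z.1 • a + (if z.2 then d else -d)) with hB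
  have hB7 : 7 ≤ B.card := by
    rw [hB, Finset.card_insert_of_notMem]
    · rw [Finset.card_image_of_injective, Finset.card_univ, Fintype.card_prod, hF, Fintype.card_bool]
      rintro ⟨t, x⟩ ⟨s, y⟩ h
      have h1 := congrArg (polar R d) h
      simp only [polar_add_right, polar_smul_r', polar_comm _ d a, had, mul_zero, zero_add] at h1
      have hxy : x = y := by
        cases x <;> cases y <;> simp only [Bool.false_eq_true, if_false, if_true, polar_neg_right, polar_self',
          hd] at h1 ⊢
        · exact absurd (show 2 * (2 * R u) = 0 by linear_combination -h1) (mul_ne_zero h2 (mul_ne_zero h2 hu))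
        · exact absurd (show 2 * (2 * R u) = 0 by linear_combination h1) (mul_ne_zero h2 (mul_ne_zero h2 hu))
      subst hxy
      simp only at h
      rw [smul_left_injective F ha0 (add_right_cancel h)]
    · simp only [mem_image, mem_univ, true_and, not_exists]
      rintro ⟨t, x⟩ h
      have h1 := congrArg (polar R d) h
      rw [hdc] at h1
      simp only [polar_add_right, polar_smul_r', polar_comm _ d a, had, mul_zero, zero_add] at h1
      cases x <;>
        simp only [Bool.false_eq_true, if_false, if_true, polar_neg_right, polar_self', hd, neg_eq_zero] at h1 <;>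
        exact mul_ne_zero h2 hu h1
  have hsub : A ∪ B ⊆ cls R u := by
    intro v hv
    refine mem_cls.2 ⟨1, one_ne_zero, ?_⟩
    rw [one_mul, one_mul]
    rcases mem_union.1 hv with h | h
    · exact (mem_filter.1 h).2.2
    rw [hB, mem_insert] at h
    rcases h with rfl | h
    · exact hcv
    obtain ⟨⟨t, x⟩, -, rfl⟩ := mem_image.1 h
    cases x <;> simp [quad_add', quad_smul', ha, hd, polar_smul_l', polar_neg_right, had]
  have hdisj : Disjoint A B := by
    rw [Finset.disjoint_left]
    intro v hv hvB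
    refine (mem_filter.1 hv).2.1 ?_
    rw [hB, mem_insert] at hvB
    rcases hvB with rfl | h
    · exact hac
    obtain ⟨⟨t, x⟩, -, rfl⟩ := mem_image.1 h
    cases x <;> simp [polar_add_right, polar_smul_r', polar_neg_right, polar_self', ha, had]
  have := Finset.card_le_card hsub
  rw [Finset.card_union_of_disjoint hdisj] at this
  omega

/-- The numerical facts. -/
theorem num_minus_four [Fintype ((Fin 1 ⊕ Fin 1) ⊕ Fin 2 → F)] [DecidableEq ((Fin 1 ⊕ Fin 1) ⊕ Fin 2 → F)] :
    ∃ p : ℕ, p.Prime ∧ CharP F p ∧ Num (minusForm F 1 a b) p := by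
  obtain ⟨q, hF⟩ : ∃ q, Fintype.card F = q := ⟨_, rfl⟩
  have hS := setup_minus hab
  have hq : 2 ≤ q := hF ▸ Fintype.one_lt_card
  have hdim := hS.four
  have hW : Fintype.card ((Fin 1 ⊕ Fin 1) ⊕ Fin 2 → F) = q ^ 4 := by
    rw [← Nat.card_eq_fintype_card, Module.natCard_eq_pow_finrank (K := F), hdim, Nat.card_eq_fintype_card, hF]
  have hz : (zeroCount (minusForm F 1 a b) : ℤ) = (q : ℤ) ^ 3 + q - (q : ℤ) ^ 2 := by
    rw [zeroCount_minus hF a b hab 1]; ring
  have hsing : (sing (minusForm F 1 a b)).card = (q ^ 2 + 1) * (q - 1) := by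
    rw [MinIndexOrth.card_sing]
    have h1 : 1 ≤ zeroCount (minusForm F 1 a b) :=
      Nat.one_le_iff_ne_zero.2 (Nat.card_ne_zero.2 ⟨⟨⟨0, by simp⟩⟩, inferInstance⟩)
    zify [h1, show 1 ≤ q by omega]
    rw [hz]; ring
  obtain ⟨p, hc⟩ := CharP.exists F
  obtain ⟨n, hp, hn⟩ := FiniteField.card F p
  rw [hF] at hn
  refine ⟨p, hp, hc, ⟨by rw [hsing, hF], fun hq4 u hu => ?_, fun hq3 => ⟨?_, fun u hu => ⟨fun h2 => ?_, fun h3 => ?_⟩⟩⟩⟩
  · rw [hF] at hq4 ⊢
    obtain ⟨p', hp', hc', hcase⟩ := MinIndexOrth.char_facts hF hq4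
    obtain rfl : p' = p := CharP.eq F hc' hc
    rcases hcase with ⟨rfl, hc2⟩ | ⟨h2F, h5, hpc⟩
    · have := MinIndexOrth.card_cls_two (R := minusForm F 1 a b) hu
      rw [this, hW]
      have hzle : zeroCount (minusForm F 1 a b) ≤ q ^ 4 := by
        zify; rw [hz]
        nlinarith [show (4 : ℤ) ≤ q by exact_mod_cast hq4, pow_nonneg (show (0:ℤ) ≤ q by positivity) 3]
      zify [hzle]
      rw [hz]
      have hq' : (4 : ℤ) ≤ q := by exact_mod_cast hq4
      nlinarith [mul_le_mul_of_nonneg_right hq' (pow_nonneg (show (0:ℤ) ≤ q by positivity) 3),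
        mul_le_mul_of_nonneg_right hq' (pow_nonneg (show (0:ℤ) ≤ q by positivity) 1)]
    · obtain ⟨a₀, ha0, ha⟩ := hS.iso
      have h := MinIndexOrth.card_cls_ge hS.nd (by rw [hdim]; norm_num) ha0 ha hu
      rw [hdim, hF] at h
      zify [show 1 ≤ q by omega] at h
      norm_num at h
      zify
      have hq' : (5 : ℤ) ≤ q := by exact_mod_cast h5
      have e1 : (p' : ℤ) * (((q : ℤ) - 1) * (((q : ℤ) - 1) * (q : ℤ) ^ 2)) ≤
          p' * (2 * ((cls (minusForm F 1 a b) u).card : ℤ)) := mul_le_mul_of_nonneg_left h (by positivity)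
      have e2 := mul_le_mul_of_nonneg_right hpc (show (0 : ℤ) ≤ (q : ℤ) + 1 by linarith)
      have e3 := mul_le_mul_of_nonneg_left (show ((q : ℤ) - 1) * (q + 1) ≤ q ^ 2 by nlinarith)
        (show (0 : ℤ) ≤ p' * ((q - 1) * (q - 1)) from mul_nonneg (by positivity) (mul_self_nonneg _))
      linarith
  · rw [hF] at hq3 ⊢
    have h1 : p ∣ q := hn ▸ dvd_pow_self p n.ne_zero
    have h2 := hp.two_le
    have h3 := Nat.le_of_dvd (by omega) h1
    interval_cases q <;> interval_cases p <;> simp at h1 ⊢
  · rw [hF] at h2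
    subst h2
    have : CharP F 2 := CharP.congr p (by
      have h1 : p ∣ 2 := hn ▸ dvd_pow_self p n.ne_zero
      exact (Nat.prime_dvd_prime_iff_eq hp Nat.prime_two).1 h1)
    rw [MinIndexOrth.card_cls_two (R := minusForm F 1 a b) hu, hW]
    have : zeroCount (minusForm F 1 a b) = 6 := by
      zify; rw [hz]; norm_num
    omega
  · exact cls_three_ge hS h3 hu

end CfsgLib.KnownA.MinIndexU4
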