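import Cfsg.Agent.Lib.KnownA.MinIndexU4.Dichotomy

/-!
# Minimal index of `PΩ⁻₆(q)`: multiplicities
-/

set_option autoImplicit false
set_option linter.unusedSectionVars false

open Module QuadraticMap CfsgLib.Orth CfsgLib.Classical Finset
open scoped LinearAlgebra.Projectivization
open CfsgLib.KnownA.MinIndexOrth (ee ff iw iw_apply split q_ee q_ff q_iw b_ee_iw b_ff_iw b_iw emb emb_apply Om sing cls mem_sing mem_cls)

namespace CfsgLib.KnownA.MinIndexU4

variable {F W : Type*} [Field F] [Fintype F] [AddCommGroup W] [Module F W] [FiniteDimensional F W]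
  [Fintype W] [DecidableEq W] {R : QuadraticForm F W} {Ω : Type*} [Fintype Ω] [DecidableEq Ω]

/-- The numerical facts. -/
structure Num (R : QuadraticForm F W) (p : ℕ) : Prop where
  hsing : (sing R).card = (Fintype.card F ^ 2 + 1) * (Fintype.card F - 1)
  hdich : 4 ≤ Fintype.card F → ∀ u, R u ≠ 0 →
    Fintype.card F ^ 4 + Fintype.card F ^ 3 + Fintype.card F + 1 ≤ p * (cls R u).card
  hsmall : Fintype.card F ≤ 3 → Fintype.card F = p ∧ ∀ u, R u ≠ 0 →
    (Fintype.card F = 2 → 10 ≤ (cls R u).card) ∧ (Fintype.card F = 3 → 25 ≤ (cls R u).card)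

namespace Act

variable (A : Act R Ω) {p : ℕ}

/-- If every translate by `H` leaves `C`, then `C` is a small part of the set. -/
theorem translate_count {U C H : Finset W} (hadd : ∀ y ∈ U, ∀ h ∈ H, y + h ∈ U)
    (hsub : ∀ y ∈ U, ∀ h ∈ H, y - h ∈ U) (hout : ∀ y ∈ U, ∃ h ∈ H, y + h ∉ C) :
    H.card * (U.filter (· ∈ C)).card ≤ (H.card - 1) * U.card := by
  have hshift : ∀ h ∈ H, (U.filter fun y => y + h ∈ C).card = (U.filter (· ∈ C)).card := by
    intro h hh
    refine Finset.card_bij (fun y _ => y + h) ?_ (fun a _ b _ e => add_right_cancel e) ?_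
    · intro y hy
      rw [mem_filter] at hy ⊢
      exact ⟨hadd y hy.1 h hh, hy.2⟩
    · intro z hz
      rw [mem_filter] at hz
      exact ⟨z - h, mem_filter.2 ⟨hsub z hz.1 h hh, by rw [sub_add_cancel]; exact hz.2⟩, sub_add_cancel z h⟩
  calc H.card * (U.filter (· ∈ C)).card = ∑ h ∈ H, (U.filter fun y => y + h ∈ C).card := by
        rw [Finset.sum_congr rfl hshift, Finset.sum_const, smul_eq_mul]
    _ = ∑ y ∈ U, (H.filter fun h => y + h ∈ C).card := by
        simp only [Finset.card_filter]; exact Finset.sum_comm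
    _ ≤ ∑ _y ∈ U, (H.card - 1) := Finset.sum_le_sum fun y hy => by
        obtain ⟨h, hh, hC⟩ := hout y hy
        rw [← Finset.card_erase_of_mem hh]
        refine Finset.card_le_card fun x hx => mem_erase.2 ⟨?_, (mem_filter.1 hx).1⟩
        rintro rfl
        exact hC (mem_filter.1 hx).2
    _ = _ := by rw [Finset.sum_const, smul_eq_mul, mul_comm]

/-- The sum over a class bounded through the orbits. -/
theorem sum_above_bound (T : Finset W) {a b : ℕ} (h : ∀ ω, a * ((A.ann ω).filter (· ∈ T)).card ≤ b * (A.ann ω).card) :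
    a * ∑ y ∈ T, (A.above y).card ≤ b * Fintype.card Ω := by
  rw [A.sum_above, A.card_eq_sum, Finset.mul_sum, Finset.mul_sum]
  refine Finset.sum_le_sum fun O hO => ?_
  obtain ⟨ω, rfl⟩ := A.exists_of_mem hO
  rw [A.filter_ann rfl, ← A.card_ann]
  refine le_trans (Nat.mul_le_mul_left a (Finset.card_le_card fun y hy => ?_)) (h ω)
  rw [mem_filter] at hy ⊢
  exact ⟨hy.2, hy.1⟩

theorem three_count (hF : Fintype.card F = 3) {u : W} (hu : R u ≠ 0) (ω : Ω) :
    3 * ((A.ann ω).filter (· ∈ cls R u)).card ≤ 2 * (A.ann ω).card := by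
  by_cases hne : ((A.ann ω).filter (· ∈ cls R u)) = ∅
  · simp [hne]
  obtain ⟨v, hv⟩ := Finset.nonempty_iff_ne_empty.2 hne
  rw [mem_filter] at hv
  have h3 : (3 : F) = 0 := by
    have hr : ((Fintype.card F : ℕ) : F) = 0 := FiniteField.cast_card_eq_zero F
    rw [hF] at hr
    exact_mod_cast hr
  have hcls : ∀ w, w ∈ cls R u → R w = R u := fun w hw => by
    obtain ⟨β, hβ, e⟩ := mem_cls.1 hw
    have h1 := FiniteField.pow_card_sub_one_eq_one β hβ
    rw [hF] at h1
    rw [e, show β * β = 1 by rw [← h1]; ring, one_mul]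
  have hv0 : v ≠ 0 := fun e => hu (by rw [← hcls v hv.2, e, QuadraticMap.map_zero])
  have h2v : v ≠ -v := fun e => hv0 (by
    have e1 : (2 : F) • v = 0 := by
      rw [two_smul]
      nth_rewrite 2 [e]
      exact add_neg_cancel v
    exact (smul_eq_zero.1 e1).resolve_left fun h2 => one_ne_zero (show (1 : F) = 0 by linear_combination h3 - h2))
  set H : Finset W := {0, v, -v}
  have hH : H.card = 3 := Finset.card_eq_three.2 ⟨0, v, -v, hv0.symm, (neg_ne_zero.2 hv0).symm, h2v, rfl⟩
  have := translate_count (U := A.ann ω) (C := cls R u) (H := H) ?_ ?_ ?_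
  · rw [hH] at this; exact this
  · intro y hy h hh
    simp only [H, mem_insert, mem_singleton] at hh
    rcases hh with rfl | rfl | rfl
    · simpa using hy
    · exact A.ann_add hy hv.1
    · exact A.ann_add hy (A.ann_neg hv.1)
  · intro y hy h hh
    simp only [H, mem_insert, mem_singleton] at hh
    rw [sub_eq_add_neg]
    rcases hh with rfl | rfl | rfl
    · simpa using hy
    · exact A.ann_add hy (A.ann_neg hv.1)
    · simpa using A.ann_add hy hv.1
  · intro y _
    by_contra! hall
    have e0 := hcls _ (hall 0 (by simp [H]))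
    have e1 := hcls _ (hall v (by simp [H]))
    have e2 := hcls _ (hall (-v) (by simp [H]))
    rw [add_zero] at e0
    rw [quad_add', e0, hcls v hv.2] at e1
    rw [quad_add', e0, QuadraticMap.map_neg, hcls v hv.2, polar_neg_right] at e2
    exact hu (by linear_combination -(e1 + e2) + R u * h3)

theorem two_count (hF : Fintype.card F = 2) {u : W} (hu : R u ≠ 0) (ω : Ω) :
    4 * ((A.ann ω).filter (· ∈ cls R u)).card ≤ 3 * (A.ann ω).card := by
  have hval : ∀ x : F, x ≠ 0 → x = 1 := fun x hx => by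
    have := FiniteField.pow_card_sub_one_eq_one x hx
    rwa [hF, pow_one] at this
  have h2 : (2 : F) = 0 := by
    have hr : ((Fintype.card F : ℕ) : F) = 0 := FiniteField.cast_card_eq_zero F
    rw [hF] at hr
    exact_mod_cast hr
  have hcls : ∀ w, w ∈ cls R u → R w = 1 := fun w hw => by
    obtain ⟨β, hβ, e⟩ := mem_cls.1 hw
    exact hval _ (by rw [e]; exact mul_ne_zero (mul_ne_zero hβ hβ) hu)
  have hnegW : ∀ x : W, -x = x := fun x => by
    have : (2 : F) • x = 0 := by rw [h2, zero_smul]
    rw [two_smul] at this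
    exact (eq_neg_of_add_eq_zero_left this).symm
  by_cases hpair : ∃ v ∈ A.ann ω, ∃ w ∈ A.ann ω, polar R v w ≠ 0
  · obtain ⟨v, hv, w, hw, hvw⟩ := hpair
    have hv0 : v ≠ 0 := fun e => hvw (by rw [e, polar_zero_left])
    have hw0 : w ≠ 0 := fun e => hvw (by rw [e, polar_zero_right])
    have hne : v ≠ w := fun e => hvw (by rw [e, polar_self', h2, zero_mul])
    set H : Finset W := {0, v, w, v + w}
    have hH : H.card = 4 := Finset.card_eq_four.2 ⟨0, v, w, v + w, hv0.symm, hw0.symm,
      fun e => hne (by rw [eq_neg_of_add_eq_zero_left e.symm, hnegW]), hne,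
      fun e => hw0 (left_eq_add.1 e), fun e => hv0 (right_eq_add.1 e), rfl⟩
    have hmem : ∀ h ∈ H, h ∈ A.ann ω := fun h hh => by
      simp only [H, mem_insert, mem_singleton] at hh
      rcases hh with rfl | rfl | rfl | rfl
      exacts [A.zero_mem ω, hv, hw, A.ann_add hv hw]
    have := translate_count (U := A.ann ω) (C := cls R u) (H := H) (fun y hy h hh => A.ann_add hy (hmem h hh))
      (fun y hy h hh => by rw [sub_eq_add_neg]; exact A.ann_add hy (A.ann_neg (hmem h hh))) fun y _ => ?_
    · rw [hH] at this; exact this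
    by_contra! hall
    have e0 := hcls _ (hall 0 (by simp [H]))
    have e1 := hcls _ (hall v (by simp [H]))
    have e2 := hcls _ (hall w (by simp [H]))
    have e3 := hcls _ (hall (v + w) (by simp [H]))
    rw [add_zero] at e0
    rw [quad_add', e0] at e1 e2
    rw [quad_add', e0, quad_add', polar_add_right, hval _ hvw] at e3
    exact one_ne_zero (show (1 : F) = 0 by linear_combination e3 - e1 - e2)
  push Not at hpair
  by_cases hne : (A.ann ω).filter (· ∈ cls R u) = ∅
  · simp [hne]
  obtain ⟨v, hv⟩ := Finset.nonempty_iff_ne_empty.2 hne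
  rw [mem_filter] at hv
  have hv0 : (0 : W) ≠ v := fun e => zero_ne_one (α := F) (by rw [← hcls v hv.2, ← e, QuadraticMap.map_zero])
  have := translate_count (U := A.ann ω) (C := cls R u) (H := {0, v})
    (fun y hy h hh => by
      simp only [mem_insert, mem_singleton] at hh
      rcases hh with rfl | rfl
      · simpa using hy
      · exact A.ann_add hy hv.1)
    (fun y hy h hh => by
      simp only [mem_insert, mem_singleton] at hh
      rcases hh with rfl | rfl
      · simpa using hy
      · rw [sub_eq_add_neg]; exact A.ann_add hy (A.ann_neg hv.1)) fun y hy => ?_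
  · rw [Finset.card_pair hv0] at this
    omega
  by_contra! hall
  have e0 := hcls _ (hall 0 (by simp))
  have e1 := hcls _ (hall v (by simp))
  rw [add_zero] at e0
  rw [quad_add', e0, hcls v hv.2, hpair y hy v hv.1] at e1
  exact one_ne_zero (show (1 : F) = 0 by linear_combination e1)

/-- Few orbits lie above a non-singular vector. -/
theorem above_lt (H : Num R p)
    (hcard : Fintype.card Ω ≤ Fintype.card F ^ 4 + Fintype.card F ^ 3 + Fintype.card F) {u : W} (hu : R u ≠ 0) :
    (A.above u).card < p := by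
  by_contra hge
  push Not at hge
  have h : p * (cls R u).card ≤ ∑ y ∈ cls R u, (A.above y).card := by
    rw [mul_comm, ← smul_eq_mul]
    refine Finset.card_nsmul_le_sum _ _ _ fun y hy => ?_
    obtain ⟨β, hβ, he⟩ := mem_cls.1 hy
    obtain ⟨n, α, σ, hα, hn, rfl⟩ := A.S.exists_move_class hu hβ he
    exact hge.trans (A.card_above_le hn hα u)
  rcases Nat.lt_or_ge (Fintype.card F) 4 with hq | hq
  · obtain ⟨hp, hs⟩ := H.hsmall (by omega)
    obtain ⟨h10, h25⟩ := hs u hu
    have := Fintype.one_lt_card (α := F)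
    rcases (show Fintype.card F = 2 ∨ Fintype.card F = 3 by omega) with h2 | h3
    · have h4 := A.sum_above_bound (cls R u) (A.two_count h2 hu)
      have := h10 h2
      rw [← hp, h2] at h
      rw [h2] at hcard
      omega
    · have h4 := A.sum_above_bound (cls R u) (A.three_count h3 hu)
      have := h25 h3
      rw [← hp, h3] at h
      rw [h3] at hcard
      omega
  · have := A.sum_above_le (cls R u)
    have := H.hdich hq u hu
    omega

/-- The exceptional shape over two elements does not occur. -/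
theorem no_small_exception (H : Num R p)
    (hcard : Fintype.card Ω ≤ Fintype.card F ^ 4 + Fintype.card F ^ 3 + Fintype.card F) (hF : Fintype.card F = 2)
    {ω : Ω} {u : W} (hu : R u ≠ 0) (huU : u ∈ A.ann ω) (hy : ∃ y ∈ A.ann ω, ∀ t : F, y ≠ t • u)
    (huniq : ∀ w ∈ A.ann ω, R w ≠ 0 → w = u) : False := by
  obtain ⟨y, hy, hyu⟩ := hy
  have h4 : 4 ≤ (A.orb ω).card := by
    rw [← A.card_ann]
    have hu0 : u ≠ 0 := fun e => hu (by rw [e, QuadraticMap.map_zero])
    have h := Finset.card_eq_four.2 ⟨(0 : W), u, y, y + u, hu0.symm, fun e => hyu 0 (by rw [zero_smul, ← e]),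
      fun e => hyu (-1) (by rw [neg_one_smul]; exact eq_neg_of_add_eq_zero_left e.symm),
      fun e => hyu 1 (by rw [one_smul, ← e]), fun e => hyu 0 (by rw [zero_smul]; exact right_eq_add.1 e),
      fun e => hu0 (left_eq_add.1 e), rfl⟩
    rw [← h]
    refine Finset.card_le_card fun z hz => ?_
    simp only [mem_insert, mem_singleton] at hz
    rcases hz with rfl | rfl | rfl | rfl
    exacts [A.zero_mem ω, huU, hy, A.ann_add hy huU]
  have hall : ∀ v ∈ cls R u, ∃ ν : Ω, v ∈ A.ann ν ∧ 4 ≤ (A.orb ν).card ∧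
      ∀ w ∈ A.ann ν, R w ≠ 0 → w = v := by
    intro v hv
    obtain ⟨β, hβ, he⟩ := mem_cls.1 hv
    obtain ⟨n, α, σ, hα, hn, rfl⟩ := A.S.exists_move_class hu hβ he
    refine ⟨A.π n ω, (A.ann_moves hn hα).1 huU, ?_, fun w hw hRw => ?_⟩
    · rw [A.orb_moves hn hα, Finset.card_image_of_injective _ (A.π n).injective]
      exact h4
    · obtain ⟨w₀, rfl⟩ : ∃ w₀, α⁻¹ • σ.1 w₀ = w :=
        ⟨σ.1.symm (α • w), by rw [LinearEquiv.apply_symm_apply, smul_smul, inv_mul_cancel₀ hα, one_smul]⟩
      rw [quad_smul', apply_quad] at hRw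
      rw [huniq w₀ ((A.ann_moves hn hα).2 hw) (fun e => hRw (by rw [e, mul_zero]))]
  have : Nonempty Ω := ⟨ω⟩
  choose! f hf using hall
  have hinj : Set.InjOn (fun v => A.orb (f v)) (cls R u) := fun v hv w hw e => by
    have hmem : f w ∈ A.orb (f v) := by rw [show A.orb (f v) = A.orb (f w) from e]; exact A.self_mem _
    have h1 := (hf w hw).1
    rw [A.ann_eq hmem] at h1
    obtain ⟨β, hβ, he⟩ := mem_cls.1 hw
    exact ((hf v hv).2.2 w h1 (he ▸ mul_ne_zero (mul_ne_zero hβ hβ) hu)).symm
  have hsum : (cls R u).card * 4 ≤ Fintype.card Ω := by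
    rw [A.card_eq_sum, ← smul_eq_mul]
    refine le_trans (Finset.card_nsmul_le_sum _ _ _ fun v hv => (hf v hv).2.1) ?_
    rw [← Finset.sum_image (f := fun O : Finset Ω => O.card) hinj]
    refine Finset.sum_le_sum_of_subset fun O hO => ?_
    obtain ⟨v, -, rfl⟩ := mem_image.1 hO
    exact A.orb_mem _
  have := ((H.hsmall (by omega)).2 u hu).1 hF
  rw [hF] at hcard
  omega

/-- An annihilator containing a non-singular vector is everything or lies in a line. -/
theorem all_or_line [Fact p.Prime] [CharP F p] (H : Num R p)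
    (hcard : Fintype.card Ω ≤ Fintype.card F ^ 4 + Fintype.card F ^ 3 + Fintype.card F) (ω : Ω) (u : W)
    (hu : R u ≠ 0) (huU : u ∈ A.ann ω) :
    (∀ w, w ∈ A.ann ω) ∨ ∀ w, w ∈ A.ann ω → ∃ t : F, w = t • u := by
  have hdich : ∀ v, R v ≠ 0 → v ∈ A.ann ω →
      (∀ w, w ∈ A.ann ω → ∃ t : F, w = t • v) ∨ (∀ w, polar R v w = 0 → w ∈ A.ann ω) := fun v hv hvU => by
    rcases A.dichotomy hv hvU (A.above_lt H hcard hv) with h | h | ⟨hF, h1, h2⟩
    exacts [Or.inl h, Or.inr h, (A.no_small_exception H hcard hF hv hvU h1 h2).elim]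
  rcases hdich u hu huU with h | h
  · exact Or.inr h
  refine Or.inl fun w => ?_
  obtain ⟨a, b, ha, hb, hab, hua, hub⟩ := A.S.exists_pair_perp hu
  set v := a + b
  have huv : polar R u v = 0 := by simp only [v, polar_add_right, hua, hub, add_zero]
  have hRv : R v ≠ 0 := by simp [v, quad_add', ha, hb, hab]
  have hv' : ∀ x, polar R v x = 0 → x ∈ A.ann ω := by
    rcases hdich v hRv (h v huv) with h' | h'
    · exfalso
      obtain ⟨t, ht⟩ := h' a (h a hua)
      have hq := congrArg R ht
      rw [ha, quad_smul', eq_comm] at hq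
      have ht0 : t = 0 := mul_self_eq_zero.1 ((mul_eq_zero.1 hq).resolve_right hRv)
      rw [ht0, zero_smul] at ht
      rw [ht, polar_zero_left] at hab
      exact zero_ne_one hab
    · exact h'
  have hva : polar R v a = 1 := by
    simp [v, polar_add_left, polar_self', ha, polar_comm _ b a, hab]
  have key : w = (w - polar R v w • a) + polar R v w • a := by abel
  rw [key]
  exact A.ann_add (hv' _ (by rw [polar_sub_right, polar_smul_r', hva]; ring))
    (h _ (by rw [polar_smul_r', hua, mul_zero]))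

end Act

end CfsgLib.KnownA.MinIndexU4
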