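import Cfsg.Agent.Lib.KnownA.MinIndexU4.Geometry
import Mathlib.Analysis.Fourier.FiniteAbelian.PontryaginDuality

/-!
# Minimal index of `PΩ⁻₆(q)`: orbits of the radical
-/

set_option autoImplicit false
set_option linter.unusedSectionVars false

open Module QuadraticMap CfsgLib.Orth CfsgLib.Classical Finset
open scoped LinearAlgebra.Projectivization
open CfsgLib.KnownA.MinIndexOrth (ee ff iw iw_apply split q_ee q_ff q_iw b_ee_iw b_ff_iw b_iw emb emb_apply Om sing cls mem_sing mem_cls)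

namespace CfsgLib.KnownA.MinIndexU4

variable {F W : Type*} [Field F] [Fintype F] [AddCommGroup W] [Module F W] [FiniteDimensional F W]
  [Fintype W] [DecidableEq W] {R : QuadraticForm F W} {Ω : Type*} [Fintype Ω] [DecidableEq Ω]

/-- A transitive non-trivial action of `Ω` with a non-trivial additive character of the field. -/
structure Act (R : QuadraticForm F W) (Ω : Type*) where
  S : Setup R
  π : Om R →* Equiv.Perm Ω
  χ : AddChar F ℂ
  hχ : χ 1 ≠ 1
  trans : ∀ a b : Ω, ∃ g, π g a = b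
  two : ∃ a b : Ω, a ≠ b

namespace Act

variable (A : Act R Ω)

/-- The number of fixed points. -/
noncomputable def fx (g : Om R) : ℕ := (univ.filter fun ω => A.π g ω = ω).card

theorem fx_conj (n g : Om R) : A.fx (n * g * n⁻¹) = A.fx g := by
  unfold fx
  refine (Finset.card_bij (fun ω _ => A.π n ω) ?_ ?_ ?_).symm
  · intro ω hω
    rw [mem_filter] at hω ⊢
    refine ⟨mem_univ _, ?_⟩
    simp [map_mul, map_inv, hω.2]
  · exact fun a _ b _ h => (A.π n).injective h
  · intro b hb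
    rw [mem_filter] at hb
    refine ⟨(A.π n)⁻¹ b, mem_filter.2 ⟨mem_univ _, (A.π n).injective ?_⟩, by simp⟩
    simpa [map_mul, map_inv] using hb.2

theorem pi_add (u v : W) (ω : Ω) : A.π (A.S.x (u + v)) ω = A.π (A.S.x u) (A.π (A.S.x v) ω) := by
  rw [A.S.x_add, map_mul, Equiv.Perm.mul_apply]

theorem pi_zero (ω : Ω) : A.π (A.S.x 0) ω = ω := by rw [A.S.x_zero, map_one, Equiv.Perm.one_apply]

/-- The orbit of the radical. -/
noncomputable def orb (ω : Ω) : Finset Ω := univ.image fun v => A.π (A.S.x v) ω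

theorem mem_orb {ω ν : Ω} : ν ∈ A.orb ω ↔ ∃ v, A.π (A.S.x v) ω = ν := by simp [orb]

theorem self_mem (ω : Ω) : ω ∈ A.orb ω := A.mem_orb.2 ⟨0, A.pi_zero ω⟩

theorem orb_eq {ω ν : Ω} (h : ν ∈ A.orb ω) : A.orb ν = A.orb ω := by
  obtain ⟨y, rfl⟩ := A.mem_orb.1 h
  ext z
  simp only [mem_orb]
  constructor
  · rintro ⟨v, rfl⟩; exact ⟨v + y, A.pi_add v y ω⟩
  · rintro ⟨v, rfl⟩; exact ⟨v - y, by rw [← A.pi_add, sub_add_cancel]⟩

/-- All orbits. -/
noncomputable def orbs : Finset (Finset Ω) := univ.image A.orb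

theorem orb_mem (ω : Ω) : A.orb ω ∈ A.orbs := mem_image_of_mem _ (mem_univ ω)

theorem of_mem_orbs {O : Finset Ω} (hO : O ∈ A.orbs) {ω : Ω} (h : ω ∈ O) : O = A.orb ω := by
  obtain ⟨ν, -, rfl⟩ := mem_image.1 hO
  exact (A.orb_eq h).symm

theorem exists_of_mem {O : Finset Ω} (hO : O ∈ A.orbs) : ∃ ω, O = A.orb ω := by
  obtain ⟨ν, -, rfl⟩ := mem_image.1 hO
  exact ⟨ν, rfl⟩

theorem sum_orbs (p : Ω → Prop) [DecidablePred p] :
    (univ.filter p).card = ∑ O ∈ A.orbs, (O.filter p).card := by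
  rw [← Finset.card_biUnion]
  · congr 1
    ext ω
    simp only [mem_filter, mem_univ, true_and, mem_biUnion]
    exact ⟨fun h => ⟨A.orb ω, A.orb_mem ω, A.self_mem ω, h⟩, fun ⟨_, _, _, h⟩ => h⟩
  · intro O hO O' hO' hne
    rw [Function.onFun, Finset.disjoint_left]
    intro ω h h'
    exact hne ((A.of_mem_orbs hO (mem_filter.1 h).1).trans (A.of_mem_orbs hO' (mem_filter.1 h').1).symm)

theorem card_eq_sum : Fintype.card Ω = ∑ O ∈ A.orbs, O.card := by
  simpa using A.sum_orbs fun _ => True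

/-- The parameters fixing a point. -/
noncomputable def stab (ω : Ω) : AddSubgroup W where
  carrier := {v | A.π (A.S.x v) ω = ω}
  zero_mem' := A.pi_zero ω
  add_mem' {u v} hu hv := by
    show A.π (A.S.x (u + v)) ω = ω
    rw [A.pi_add, hv, hu]
  neg_mem' {v} hv := by
    show A.π (A.S.x (-v)) ω = ω
    conv_lhs => rw [← show A.π (A.S.x v) ω = ω from hv]
    rw [← A.pi_add, neg_add_cancel, A.pi_zero]

theorem mem_stab {ω : Ω} {v : W} : v ∈ A.stab ω ↔ A.π (A.S.x v) ω = ω := Iff.rfl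

theorem stab_eq {ω ν : Ω} (h : ν ∈ A.orb ω) : A.stab ν = A.stab ω := by
  obtain ⟨y, rfl⟩ := A.mem_orb.1 h
  ext v
  rw [mem_stab, mem_stab, ← A.pi_add, add_comm, A.pi_add]
  exact ⟨fun e => (A.π (A.S.x y)).injective e, fun e => by rw [e]⟩

theorem card_orb (ω : Ω) : Nat.card (W ⧸ A.stab ω) = (A.orb ω).card := by
  let f : W ⧸ A.stab ω → A.orb ω :=
    Quotient.lift (fun v => ⟨A.π (A.S.x v) ω, A.mem_orb.2 ⟨v, rfl⟩⟩) (by
      intro u v huv
      apply Subtype.ext
      have h : A.π (A.S.x (-u + v)) ω = ω := QuotientAddGroup.leftRel_apply.1 huv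
      change A.π (A.S.x u) ω = A.π (A.S.x v) ω
      rw [show v = u + (-u + v) by abel, A.pi_add u, h])
  rw [← Nat.card_eq_finsetCard]
  refine Nat.card_congr (Equiv.ofBijective f ⟨?_, ?_⟩)
  · rintro ⟨u⟩ ⟨v⟩ h
    apply Quotient.sound
    refine QuotientAddGroup.leftRel_apply.2 ?_
    have h' : A.π (A.S.x u) ω = A.π (A.S.x v) ω := congrArg Subtype.val h
    rw [mem_stab, A.pi_add, ← h', ← A.pi_add, neg_add_cancel, A.pi_zero]
  · rintro ⟨z, hz⟩
    obtain ⟨v, rfl⟩ := A.mem_orb.1 hz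
    exact ⟨QuotientAddGroup.mk v, rfl⟩

/-- The character attached to a vector. -/
noncomputable def chr (y : W) : AddChar W ℂ :=
  A.χ.compAddMonoidHom (AddMonoidHom.mk' (fun v => polar R y v) (fun a b => polar_add_right R y a b))

theorem chr_apply (y v : W) : A.chr y v = A.χ (polar R y v) := rfl

theorem chr_inj : Function.Injective A.chr := by
  intro y z h
  by_contra hne
  obtain ⟨v, -, hv⟩ := exists_polar_one A.S.nd (W := ⊥) (x := y - z)
    (by rw [Submodule.mem_bot]; exact sub_ne_zero.2 hne)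
  apply A.hχ
  have e := DFunLike.congr_fun h v
  rw [chr_apply, chr_apply] at e
  rw [← hv, polar_comm, sub_eq_add_neg, polar_add_left, polar_neg_left, ← sub_eq_add_neg,
    AddChar.map_sub_eq_div, e, div_self]
  exact (AddChar.val_isUnit A.χ _).ne_zero

theorem chr_bij : Function.Bijective A.chr :=
  (Fintype.bijective_iff_injective_and_card _).2 ⟨A.chr_inj, (AddChar.card_eq).symm⟩

/-- The annihilator of the stabiliser. -/
noncomputable def ann (ω : Ω) : Finset W := by
  classical exact univ.filter fun y => ∀ v ∈ A.stab ω, A.χ (polar R y v) = 1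

theorem mem_ann {ω : Ω} {y : W} : y ∈ A.ann ω ↔ ∀ v ∈ A.stab ω, A.χ (polar R y v) = 1 := by
  classical simp [ann]

theorem zero_mem (ω : Ω) : (0 : W) ∈ A.ann ω :=
  A.mem_ann.2 fun v _ => by rw [polar_zero_left, AddChar.map_zero_eq_one]

theorem ann_add {ω : Ω} {y z : W} (hy : y ∈ A.ann ω) (hz : z ∈ A.ann ω) : y + z ∈ A.ann ω :=
  A.mem_ann.2 fun v hv => by
    rw [polar_add_left, AddChar.map_add_eq_mul, A.mem_ann.1 hy v hv, A.mem_ann.1 hz v hv, mul_one]

theorem ann_neg {ω : Ω} {y : W} (hy : y ∈ A.ann ω) : -y ∈ A.ann ω :=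
  A.mem_ann.2 fun v hv => by
    rw [polar_neg_left, AddChar.map_neg_eq_inv, A.mem_ann.1 hy v hv, inv_one]

theorem ann_eq {ω ν : Ω} (h : ν ∈ A.orb ω) : A.ann ν = A.ann ω := by
  ext y
  rw [mem_ann, mem_ann, A.stab_eq h]

theorem card_ann (ω : Ω) : (A.ann ω).card = (A.orb ω).card := by
  have : Fintype (W ⧸ A.stab ω) := Fintype.ofFinite _
  rw [← A.card_orb ω, Nat.card_eq_fintype_card,
    ← AddChar.card_eq (α := W ⧸ A.stab ω), ← Nat.card_eq_fintype_card, ← Nat.card_eq_finsetCard]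
  let f : A.ann ω → AddChar (W ⧸ A.stab ω) ℂ := fun y =>
    { toFun := fun z => Quotient.liftOn' z (fun v => A.χ (polar R y.1 v)) (by
        intro u v huv
        have h := A.mem_ann.1 y.2 _ (QuotientAddGroup.leftRel_apply.1 huv)
        change A.χ (polar R y.1 u) = A.χ (polar R y.1 v)
        rw [show v = u + (-u + v) by abel, polar_add_right R y.1 u, AddChar.map_add_eq_mul, h, mul_one])
      map_zero_eq_one' := by
        change A.χ (polar R y.1 0) = 1
        rw [polar_zero_right, AddChar.map_zero_eq_one]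
      map_add_eq_mul' := by
        rintro ⟨u⟩ ⟨v⟩
        change A.χ (polar R y.1 (u + v)) = A.χ (polar R y.1 u) * A.χ (polar R y.1 v)
        rw [polar_add_right, AddChar.map_add_eq_mul] }
  refine Nat.card_congr (Equiv.ofBijective f ⟨?_, ?_⟩)
  · intro y z h
    apply Subtype.ext
    apply A.chr_inj
    ext v
    exact DFunLike.congr_fun h (QuotientAddGroup.mk v)
  · intro c
    obtain ⟨y, hy⟩ := A.chr_bij.2 (c.compAddMonoidHom (QuotientAddGroup.mk' (A.stab ω)))
    refine ⟨⟨y, A.mem_ann.2 fun v hv => ?_⟩, ?_⟩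
    · rw [← A.chr_apply y v, hy]
      change c (QuotientAddGroup.mk v) = 1
      rw [(QuotientAddGroup.eq_zero_iff v).2 hv, AddChar.map_zero_eq_one]
    · apply DFunLike.ext
      rintro ⟨v⟩
      exact DFunLike.congr_fun hy v

/-- A parameter killed by the whole annihilator fixes the point. -/
theorem mem_stab_of {ω : Ω} {v : W} (h : ∀ y ∈ A.ann ω, polar R y v = 0) : v ∈ A.stab ω := by
  rw [← QuotientAddGroup.eq_zero_iff]
  refine (AddChar.forall_apply_eq_zero).1 fun c => ?_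
  obtain ⟨y, hy⟩ := A.chr_bij.2 (c.compAddMonoidHom (QuotientAddGroup.mk' (A.stab ω)))
  have hy' : y ∈ A.ann ω := A.mem_ann.2 fun u hu => by
    rw [← A.chr_apply y u, hy]
    change c (QuotientAddGroup.mk u) = 1
    rw [(QuotientAddGroup.eq_zero_iff u).2 hu, AddChar.map_zero_eq_one]
  change c.compAddMonoidHom (QuotientAddGroup.mk' (A.stab ω)) v = 1
  rw [← hy, chr_apply, h y hy', AddChar.map_zero_eq_one]

/-- A vector all of whose multiples lie in the annihilator is orthogonal to the stabiliser. -/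
theorem polar_eq_zero_of {ω : Ω} {v y : W} (hv : v ∈ A.stab ω) (h : ∀ c : F, c • y ∈ A.ann ω) :
    polar R y v = 0 := by
  by_contra hne
  apply A.hχ
  have := A.mem_ann.1 (h (polar R y v)⁻¹) v hv
  rwa [polar_smul_l', inv_mul_cancel₀ hne] at this

theorem orb_subsingleton_iff (ω : Ω) : (A.orb ω).card = 1 ↔ ∀ v, A.π (A.S.x v) ω = ω := by
  constructor
  · intro h v
    obtain ⟨a, ha⟩ := Finset.card_eq_one.1 h
    have h1 : A.π (A.S.x v) ω ∈ A.orb ω := A.mem_orb.2 ⟨v, rfl⟩
    have h2 := A.self_mem ω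
    rw [ha, mem_singleton] at h1 h2
    rw [h1, h2]
  · intro h
    refine Finset.card_eq_one.2 ⟨ω, ?_⟩
    ext z
    rw [mem_orb, mem_singleton]
    exact ⟨fun ⟨v, e⟩ => e ▸ h v, fun e => ⟨0, by rw [A.pi_zero, e]⟩⟩

/-! ### Equivariance -/

section Moves

variable {n : Om R} {α : F} {σ : orthGroup R} (hn : A.S.Moves n α σ)
include hn

theorem pi_moves (v : W) (ω : Ω) :
    A.π (A.S.x (α • σ.1 v)) (A.π n ω) = A.π n (A.π (A.S.x v) ω) := by
  rw [← hn v, map_mul, map_mul, map_inv, Equiv.Perm.mul_apply, Equiv.Perm.mul_apply]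
  simp

theorem orb_moves (hα : α ≠ 0) (ω : Ω) : A.orb (A.π n ω) = (A.orb ω).image (A.π n) := by
  ext z
  simp only [mem_orb, mem_image]
  constructor
  · rintro ⟨v, rfl⟩
    refine ⟨_, ⟨σ.1.symm (α⁻¹ • v), rfl⟩, ?_⟩
    rw [← A.pi_moves hn, LinearEquiv.apply_symm_apply, smul_smul, mul_inv_cancel₀ hα, one_smul]
  · rintro ⟨y, ⟨v, rfl⟩, rfl⟩
    exact ⟨_, A.pi_moves hn v ω⟩

theorem mem_stab_moves (v : W) (ω : Ω) :
    α • σ.1 v ∈ A.stab (A.π n ω) ↔ v ∈ A.stab ω := by
  rw [mem_stab, mem_stab, A.pi_moves hn]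
  exact ⟨fun e => (A.π n).injective e, fun e => by rw [e]⟩

theorem ann_moves (hα : α ≠ 0) {ω : Ω} {y : W} :
    y ∈ A.ann ω ↔ α⁻¹ • σ.1 y ∈ A.ann (A.π n ω) := by
  have key : ∀ v, polar R (α⁻¹ • σ.1 y) (α • σ.1 v) = polar R y v := fun v => by
    rw [polar_smul_l', polar_smul_r', polar_isom, ← mul_assoc, inv_mul_cancel₀ hα, one_mul]
  rw [mem_ann, mem_ann]
  constructor
  · intro H v hv
    obtain ⟨v₀, rfl⟩ : ∃ v₀, α • σ.1 v₀ = v :=
      ⟨σ.1.symm (α⁻¹ • v), by rw [LinearEquiv.apply_symm_apply, smul_smul, mul_inv_cancel₀ hα, one_smul]⟩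
    rw [key]
    exact H v₀ ((A.mem_stab_moves hn v₀ ω).1 hv)
  · intro H v hv
    rw [← key]
    exact H _ ((A.mem_stab_moves hn v ω).2 hv)

theorem image_mem (hα : α ≠ 0) {O : Finset Ω} (hO : O ∈ A.orbs) : O.image (A.π n) ∈ A.orbs := by
  obtain ⟨ω, rfl⟩ := A.exists_of_mem hO
  rw [← A.orb_moves hn hα]
  exact A.orb_mem _

end Moves

/-- The orbits whose annihilator contains `y`. -/
noncomputable def above (y : W) : Finset (Finset Ω) :=
  A.orbs.filter fun O => ∃ ω ∈ O, y ∈ A.ann ω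

theorem mem_above {y : W} {ω : Ω} : A.orb ω ∈ A.above y ↔ y ∈ A.ann ω := by
  simp only [above, mem_filter, A.orb_mem ω, true_and]
  exact ⟨fun ⟨ν, hν, h⟩ => (A.ann_eq hν) ▸ h, fun h => ⟨ω, A.self_mem ω, h⟩⟩

theorem above_moves {n : Om R} {α : F} {σ : orthGroup R} (hn : A.S.Moves n α σ) (hα : α ≠ 0) {y : W}
    {O : Finset Ω} (hO : O ∈ A.above y) : O.image (A.π n) ∈ A.above (α⁻¹ • σ.1 y) := by
  obtain ⟨ω, rfl⟩ := A.exists_of_mem (mem_filter.1 hO).1
  rw [← A.orb_moves hn hα, mem_above, ← A.ann_moves hn hα]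
  exact A.mem_above.1 hO

theorem card_above_le {n : Om R} {α : F} {σ : orthGroup R} (hn : A.S.Moves n α σ) (hα : α ≠ 0) (y : W) :
    (A.above y).card ≤ (A.above (α⁻¹ • σ.1 y)).card := by
  refine Finset.card_le_card_of_injOn (fun O => O.image (A.π n)) ?_ ?_
  · exact fun O hO => A.above_moves hn hα hO
  · intro O _ O' _ h
    exact Finset.image_injective (A.π n).injective h

/-- Double counting over a set of vectors. -/
theorem sum_above (T : Finset W) :
    ∑ y ∈ T, (A.above y).card = ∑ O ∈ A.orbs, (T.filter fun y => ∃ ω ∈ O, y ∈ A.ann ω).card := by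
  simp only [above, Finset.card_filter]
  exact Finset.sum_comm

theorem filter_ann {O : Finset Ω} {ω : Ω} (h : O = A.orb ω) (T : Finset W) :
    (T.filter fun y => ∃ ν ∈ O, y ∈ A.ann ν) = T.filter fun y => y ∈ A.ann ω := by
  subst h
  refine Finset.filter_congr fun y _ => ?_
  exact ⟨fun ⟨ν, hν, hy⟩ => (A.ann_eq hν) ▸ hy, fun hy => ⟨ω, A.self_mem ω, hy⟩⟩

theorem sum_above_le (T : Finset W) : ∑ y ∈ T, (A.above y).card ≤ Fintype.card Ω := by
  rw [A.sum_above, A.card_eq_sum]
  refine Finset.sum_le_sum fun O hO => ?_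
  obtain ⟨ω, rfl⟩ := A.exists_of_mem hO
  rw [A.filter_ann rfl, ← A.card_ann]
  exact Finset.card_le_card fun y hy => (mem_filter.1 hy).2

/-- A permutation of order dividing a prime `p` fixes each member of a stable family of fewer than `p`
orbits. -/
theorem fix_small_family {p : ℕ} (hp : p.Prime) {n : Om R} (hn : n ^ p = 1) {T : Finset (Finset Ω)}
    (hT : ∀ O ∈ T, O.image (A.π n) ∈ T) (hc : T.card < p) {O : Finset Ω} (hO : O ∈ T) :
    O.image (A.π n) = O := by
  set f : Finset Ω → Finset Ω := fun O => O.image (A.π n)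
  have hit : ∀ k, f^[k] O = O.image (A.π (n ^ k)) := by
    intro k
    induction k with
    | zero => simp
    | succ k ih =>
      rw [Function.iterate_succ_apply', ih, pow_succ', map_mul]
      simp only [f, Finset.image_image]
      rfl
  have hmemit : ∀ k, f^[k] O ∈ T := by
    intro k
    induction k with
    | zero => exact hO
    | succ k ih => rw [Function.iterate_succ_apply']; exact hT _ ih
  have hper : Function.IsPeriodicPt f p O := by
    show f^[p] O = O
    rw [hit, hn, map_one]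
    simp
  by_contra hne
  have hmin : Function.minimalPeriod f O = p := by
    rcases (Nat.dvd_prime hp).1 (Function.IsPeriodicPt.minimalPeriod_dvd hper) with h | h
    · exact absurd (Function.minimalPeriod_eq_one_iff_isFixedPt.1 h) hne
    · exact h
  have hinj := Function.iterate_injOn_Iio_minimalPeriod (f := f) (x := O)
  rw [hmin] at hinj
  have : p ≤ T.card := by
    calc p = (Finset.range p).card := (Finset.card_range p).symm
      _ ≤ T.card := Finset.card_le_card_of_injOn (fun k => f^[k] O) (fun k _ => hmemit k)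
          (fun a ha b hb h => hinj (by simpa using ha) (by simpa using hb) h)
  omega

end Act

end CfsgLib.KnownA.MinIndexU4
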